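import Cfsg.Agent.Lib.H27.GolayCertS

/-!
# Orders of stabilisers
-/

set_option autoImplicit false
set_option maxRecDepth 100000

namespace Cfsg.Agent.H27.Golay

open Cfsg
open scoped Pointwise

section

variable {X Y : Type*} [MulAction (Equiv.Perm GolayPt) X] [MulAction (Equiv.Perm GolayPt) Y]

theorem Orb_eq_of_mem {o : Y} {x y : X} (h : y ∈ Orb o x) : Orb o y = Orb o x := by
  obtain ⟨s, hs, h1, rfl⟩ := h
  ext z
  constructor
  · rintro ⟨u, hu, h2, rfl⟩
    exact ⟨u * s, M24.mul_mem hu hs, by rw [mul_smul, h1, h2], by rw [mul_smul]⟩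
  · rintro ⟨u, hu, h2, rfl⟩
    refine ⟨u * s⁻¹, M24.mul_mem hu (M24.inv_mem hs), ?_, ?_⟩
    · have : s⁻¹ • o = o := by
        conv_lhs => rw [← h1]
        rw [inv_smul_smul]
      rw [mul_smul, this, h2]
    · rw [mul_smul, inv_smul_smul]

theorem card_inf_stab (o : Y) (x : X) :
    Nat.card ↥(MulAction.stabilizer M24 o ⊓ MulAction.stabilizer M24 x) * (Orb o x).ncard =
      Nat.card ↥(MulAction.stabilizer M24 o) := by
  have h := Cfsg.Agent.H27.nat_card_orbit_mul_stabilizer ↥(MulAction.stabilizer M24 o) x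
  rw [orbit_eq_Orb, Nat.card_coe_set_eq] at h
  rw [← h, mul_comm]
  congr 1
  apply Nat.card_congr
  exact {
    toFun := fun g => ⟨⟨g.1, g.2.1⟩, g.2.2⟩
    invFun := fun g => ⟨g.1.1, ⟨g.1.2, g.2⟩⟩
    left_inv := fun g => rfl
    right_inv := fun g => rfl }

theorem card_stab_of_trans {A : Set X} {x : X} (hx : x ∈ A) (htr : ∀ y ∈ A, ∃ g ∈ M24, g • x = y)
    (hc : ∀ g ∈ M24, ∀ y ∈ A, g • y ∈ A) :
    Nat.card ↥(MulAction.stabilizer M24 x) * A.ncard = 244823040 := by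
  have h := Cfsg.Agent.H27.nat_card_orbit_mul_stabilizer ↥M24 x
  have h2 : MulAction.orbit ↥M24 x = A := by
    ext y
    constructor
    · rintro ⟨g, rfl⟩
      exact hc _ g.2 _ hx
    · intro hy
      obtain ⟨g, hg, rfl⟩ := htr y hy
      exact ⟨⟨g, hg⟩, rfl⟩
  rw [h2, card_M24, Nat.card_coe_set_eq] at h
  rw [mul_comm]
  exact h

end

theorem card_stab_octad {o : Finset GolayPt} (ho : o ∈ octads) :
    Nat.card ↥(MulAction.stabilizer M24 o) = 322560 := by
  have h := card_stab_of_trans ho (fun y hy => by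
    obtain ⟨g, hg, rfl⟩ := exists_smul_O0 ho
    obtain ⟨g2, hg2, rfl⟩ := exists_smul_O0 hy
    exact ⟨g2 * g⁻¹, M24.mul_mem hg2 (M24.inv_mem hg), by rw [mul_smul, inv_smul_smul]⟩)
    (fun g hg y hy => smul_mem_octads hg hy)
  rw [ncard_octads_all] at h
  omega

theorem card_stab_sextet {S : Finset (Finset GolayPt)} (ho : S ∈ sextets) :
    Nat.card ↥(MulAction.stabilizer M24 S) = 138240 := by
  have h := card_stab_of_trans ho (fun y hy => by
    obtain ⟨g, hg, rfl⟩ := exists_smul_S0 ho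
    obtain ⟨g2, hg2, rfl⟩ := exists_smul_S0 hy
    exact ⟨g2 * g⁻¹, M24.mul_mem hg2 (M24.inv_mem hg), by rw [mul_smul, inv_smul_smul]⟩)
    (fun g hg y hy => smul_mem_sextets hg hy)
  rw [ncard_sextets_all] at h
  omega

theorem card_stab_trio {S : Finset (Finset GolayPt)} (ho : S ∈ trios) :
    Nat.card ↥(MulAction.stabilizer M24 S) = 64512 := by
  have h := card_stab_of_trans ho (fun y hy => by
    obtain ⟨g, hg, rfl⟩ := exists_smul_T0 ho
    obtain ⟨g2, hg2, rfl⟩ := exists_smul_T0 hy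
    exact ⟨g2 * g⁻¹, M24.mul_mem hg2 (M24.inv_mem hg), by rw [mul_smul, inv_smul_smul]⟩)
    (fun g hg y hy => smul_mem_trios hg hy)
  rw [ncard_trios_all] at h
  omega

/-- Phi of a singleton against a singleton. -/
theorem Phi_singleton (a b : Finset GolayPt) : Phi {a} {b} = (a ∩ b).card * (a ∩ b).card := by
  simp [Phi]

theorem roots_OO_class {o₁ : Finset GolayPt} (ho : o₁ ∈ octads) {r : ℕ} (hr : r ∈ rootsOO)
    (h : (o₁ ∩ fs O0).card * (o₁ ∩ fs O0).card = sumSq [r] [O0]) :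
    (Orb (fs O0) o₁).ncard = countL (fun m => Nat.beq (sumSq [m] [O0]) (sumSq [r] [O0])) octadL := by
  have hm : o₁ ∈ Orb (fs O0) (fs r) := by
    rw [certOO.Orb_eq hr]
    exact ⟨ho, by rw [Phi_singleton]; exact h⟩
  rw [Orb_eq_of_mem hm, certOO.ncard_Orb hr]

/-- The pair of octads in standard position. -/
theorem exists_pair_std {o o' : Finset GolayPt} (ho : o ∈ octads) (ho' : o' ∈ octads) :
    ∃ g ∈ M24, ∃ o₁ ∈ octads, o = g • fs O0 ∧ o' = g • o₁ := by
  obtain ⟨g, hg, rfl⟩ := exists_smul_O0 ho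
  exact ⟨g, hg, g⁻¹ • o', smul_mem_octads (M24.inv_mem hg) ho', rfl, by rw [smul_inv_smul]⟩

theorem card_pair_stab {o o' : Finset GolayPt} (ho : o ∈ octads) (ho' : o' ∈ octads) {r : ℕ}
    (hr : r ∈ rootsOO)
    (h : (o ∩ o').card * (o ∩ o').card = sumSq [r] [O0]) :
    Nat.card ↥(MulAction.stabilizer M24 o ⊓ MulAction.stabilizer M24 o') *
      countL (fun m => Nat.beq (sumSq [m] [O0]) (sumSq [r] [O0])) octadL = 322560 := by
  obtain ⟨g, hg, o₁, ho₁, rfl, rfl⟩ := exists_pair_std ho ho'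
  have h1 := card_inf_stab (g • fs O0) (g • o₁)
  rw [ncard_Orb_smul hg, card_stab_octad ho, roots_OO_class ho₁ hr ?_] at h1
  · exact h1
  · rw [← h, card_smul_inter, Finset.inter_comm]

end Cfsg.Agent.H27.Golay
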