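import Cfsg.Agent.Lib.H27.GolayClassData

/-!
# Enumeration of cosets of point stabilisers, and conjugacy classes of small elements
-/

set_option autoImplicit false
set_option maxRecDepth 100000

namespace Cfsg.Agent.H27.Golay

open Cfsg
open scoped Pointwise

/-- `e` computes `g` on indices. -/
def Rep (g : Equiv.Perm GolayPt) (e : ℕ → ℕ) : Prop := ∀ i < 24, e i < 24 ∧ g (pt i) = pt (e i)

theorem rep_P {c : ℕ} (h : permOK c = true) : Rep (P c) (pa c) :=
  fun _ hi => ⟨pa_lt h hi, P_pt h hi⟩

theorem Rep.mul {g g' : Equiv.Perm GolayPt} {e e' : ℕ → ℕ} (h : Rep g e) (h' : Rep g' e') :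
    Rep (g * g') (fun i => e (e' i)) := by
  intro i hi
  obtain ⟨h1, h2⟩ := h' i hi
  obtain ⟨h3, h4⟩ := h _ h1
  exact ⟨h3, by rw [Equiv.Perm.mul_apply, h2, h4]⟩

theorem Rep.apply {g : Equiv.Perm GolayPt} {e : ℕ → ℕ} (h : Rep g e) (p : GolayPt) :
    g p = pt (e (idx p)) := by
  have := (h _ (idx_lt p)).2
  rwa [pt_idx] at this

theorem Rep.idx_apply {g : Equiv.Perm GolayPt} {e : ℕ → ℕ} (h : Rep g e) {i : ℕ} (hi : i < 24) :
    idx (g (pt i)) = e i := by
  rw [(h i hi).2, idx_pt' (h i hi).1]

theorem Rep.eq_of_rep {g g' : Equiv.Perm GolayPt} {e : ℕ → ℕ} (h : Rep g e) (h' : Rep g' e) :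
    g = g' := by
  ext p
  rw [h.apply, h'.apply]

/-- Tests on functions. -/
def pow2F (e : ℕ → ℕ) : Bool := allBelow (fun i => Nat.beq (e (e i)) i) 24
/-- Tests on functions. -/
def pow3F (e : ℕ → ℕ) : Bool := allBelow (fun i => Nat.beq (e (e (e i))) i) 24
/-- Tests on functions. -/
def pow7F (e : ℕ → ℕ) : Bool :=
  allBelow (fun i => Nat.beq (e (e (e (e (e (e (e i))))))) i) 24
/-- Tests on functions. -/
def fpfF (e : ℕ → ℕ) : Bool := allBelow (fun i => Bool.rec true false (Nat.beq (e i) i)) 24
/-- Tests on functions. -/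
def idF (e : ℕ → ℕ) : Bool := allBelow (fun i => Nat.beq (e i) i) 24
/-- Tests on functions. -/
def sameF (e : ℕ → ℕ) (c : ℕ) : Bool := allBelow (fun i => Nat.beq (e i) (pa c i)) 24
/-- Some code of the list is equal to `e`. -/
def anyF (e : ℕ → ℕ) (l : List ℕ) : Bool :=
  List.rec (motive := fun _ => Bool) false (fun x _ ih => Bool.rec ih true (sameF e x)) l

theorem anyF_spec {e : ℕ → ℕ} {l : List ℕ} (h : anyF e l = true) : ∃ x ∈ l, sameF e x = true := by
  induction l with
  | nil => cases h
  | cons a as ih =>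
    have hk : (Bool.rec (anyF e as) true (sameF e a) : Bool) = true := h
    cases hs : sameF e a with
    | false =>
      rw [hs] at hk
      obtain ⟨x, hx, hh⟩ := ih hk
      exact ⟨x, List.mem_cons_of_mem _ hx, hh⟩
    | true => exact ⟨a, List.mem_cons_self, hs⟩

theorem pow2F_of {g : Equiv.Perm GolayPt} {e : ℕ → ℕ} (h : Rep g e) (hg : g ^ 2 = 1) : pow2F e = true := by
  apply allBelow_of
  intro i hi
  have h1 := h i hi
  have h2 := h _ h1.1
  have : g (g (pt i)) = pt i := by
    have := congrArg (fun f : Equiv.Perm GolayPt => f (pt i)) hg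
    simpa [pow_two] using this
  rw [h1.2, h2.2] at this
  have h3 := congrArg idx this
  rw [idx_pt' h2.1, idx_pt' hi] at h3
  rw [h3]
  exact Nat.beq_refl _

theorem pow3F_of {g : Equiv.Perm GolayPt} {e : ℕ → ℕ} (h : Rep g e) (hg : g ^ 3 = 1) : pow3F e = true := by
  apply allBelow_of
  intro i hi
  have h1 := h i hi
  have h2 := h _ h1.1
  have h4 := h _ h2.1
  have : g (g (g (pt i))) = pt i := by
    have := congrArg (fun f : Equiv.Perm GolayPt => f (pt i)) hg
    simpa [pow_succ] using this
  rw [h1.2, h2.2, h4.2] at this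
  have h3 := congrArg idx this
  rw [idx_pt' h4.1, idx_pt' hi] at h3
  rw [h3]
  exact Nat.beq_refl _

theorem pow7F_of {g : Equiv.Perm GolayPt} {e : ℕ → ℕ} (h : Rep g e) (hg : g ^ 7 = 1) : pow7F e = true := by
  apply allBelow_of
  intro i hi
  have h1 := h i hi
  have h2 := h _ h1.1
  have h3 := h _ h2.1
  have h4 := h _ h3.1
  have h5 := h _ h4.1
  have h6 := h _ h5.1
  have h7 := h _ h6.1
  have : g (g (g (g (g (g (g (pt i))))))) = pt i := by
    have := congrArg (fun f : Equiv.Perm GolayPt => f (pt i)) hg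
    simpa [pow_succ] using this
  rw [h1.2, h2.2, h3.2, h4.2, h5.2, h6.2, h7.2] at this
  have h8 := congrArg idx this
  rw [idx_pt' h7.1, idx_pt' hi] at h8
  rw [h8]
  exact Nat.beq_refl _

theorem fpfF_of {g : Equiv.Perm GolayPt} {e : ℕ → ℕ} (h : Rep g e) (hg : ∀ p, g p ≠ p) : fpfF e = true := by
  apply allBelow_of
  intro i hi
  have h1 := h i hi
  cases hb : Nat.beq (e i) i with
  | true =>
    have h2 := Nat.eq_of_beq_eq_true hb
    rw [h2] at h1
    exact absurd h1.2 (hg _)
  | false => rfl

theorem not_idF_of {g : Equiv.Perm GolayPt} {e : ℕ → ℕ} (h : Rep g e) (hg : g ≠ 1) : idF e = false := by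
  cases hb : idF e with
  | false => rfl
  | true =>
    exfalso
    apply hg
    ext p
    rw [h.apply, Nat.eq_of_beq_eq_true (allBelow_spec hb _ (idx_lt p)), pt_idx]
    rfl

theorem eq_of_sameF {g : Equiv.Perm GolayPt} {e : ℕ → ℕ} (h : Rep g e) {c : ℕ} (hs : sameF e c = true)
    (hc : permOK c = true) : g = P c := by
  ext p
  rw [h.apply, P_apply hc, Nat.eq_of_beq_eq_true (allBelow_spec hs _ (idx_lt p))]

/-- Mask of the fixed points. -/
def fixMask (e : ℕ → ℕ) : ℕ :=
  Nat.rec (motive := fun _ => ℕ) 0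
    (fun i ih => Nat.lor (Bool.rec 0 (Nat.shiftLeft 1 i) (Nat.beq (e i) i)) ih) 24

theorem testBit_fixMaskN (e : ℕ → ℕ) (n j : ℕ) :
    (Nat.rec (motive := fun _ => ℕ) 0
    (fun i ih => Nat.lor (Bool.rec 0 (Nat.shiftLeft 1 i) (Nat.beq (e i) i)) ih) n : ℕ).testBit j = true ↔ j < n ∧ e j = j := by
  induction n with
  | zero => simp
  | succ n ih =>
    show (Nat.lor (Bool.rec 0 (Nat.shiftLeft 1 n) (Nat.beq (e n) n))
      (Nat.rec (motive := fun _ => ℕ) 0
    (fun i ih => Nat.lor (Bool.rec 0 (Nat.shiftLeft 1 i) (Nat.beq (e i) i)) ih) n : ℕ)).testBit j = true ↔ _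
    show ((_ ||| _ : ℕ)).testBit j = true ↔ _
    rw [Nat.testBit_or, Bool.or_eq_true, ih]
    cases hb : Nat.beq (e n) n with
    | false =>
      have hne : e n ≠ n := by
        intro h
        rw [h, Nat.beq_refl] at hb
        cases hb
      simp only [Nat.zero_testBit, Bool.false_eq_true, false_or]
      constructor
      · rintro ⟨h1, h2⟩
        exact ⟨by omega, h2⟩
      · rintro ⟨h1, h2⟩
        refine ⟨?_, h2⟩
        rcases Nat.lt_succ_iff_lt_or_eq.1 h1 with h | rfl
        · exact h
        · exact absurd h2 hne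
    | true =>
      have heq := Nat.eq_of_beq_eq_true hb
      show (((1 <<< n : ℕ)).testBit j = true ∨ _) ↔ _
      rw [Nat.one_shiftLeft, Nat.testBit_two_pow]
      simp only [decide_eq_true_eq]
      constructor
      · rintro (rfl | ⟨h1, h2⟩)
        · exact ⟨by omega, heq⟩
        · exact ⟨by omega, h2⟩
      · rintro ⟨h1, h2⟩
        rcases Nat.lt_succ_iff_lt_or_eq.1 h1 with h | rfl
        · exact Or.inr ⟨h, h2⟩
        · exact Or.inl rfl

theorem fixMask_lt (e : ℕ → ℕ) : fixMask e < 2 ^ 24 := by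
  apply Nat.lt_pow_two_of_testBit
  intro j hj
  cases hb : (fixMask e).testBit j with
  | false => rfl
  | true =>
    have := (testBit_fixMaskN e 24 j).1 hb
    omega

theorem card_fix_eq {g : Equiv.Perm GolayPt} {e : ℕ → ℕ} (h : Rep g e) :
    (Finset.univ.filter fun p => g p = p).card = popc (fixMask e) := by
  rw [← card_fs (fixMask_lt e)]
  congr 1
  ext p
  rw [Finset.mem_filter, mem_fs]
  have h1 := testBit_fixMaskN e 24 (idx p)
  show _ ↔ (fixMask e).testBit (idx p) = true
  have h2 : (fixMask e).testBit (idx p) = true ↔ idx p < 24 ∧ e (idx p) = idx p := h1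
  rw [h2]
  constructor
  · rintro ⟨-, hp⟩
    refine ⟨idx_lt p, ?_⟩
    rw [h.apply] at hp
    have := congrArg idx hp
    rwa [idx_pt' (h _ (idx_lt p)).1] at this
  · rintro ⟨-, hp⟩
    refine ⟨Finset.mem_univ _, ?_⟩
    rw [h.apply, hp, pt_idx]

/-- The image of a Boolean field of a certificate. -/
def certFst (e : ℕ) : ℕ := Nat.land e 1329227995784915872903807060280344575

/-- The conjugator of a certificate. -/
def certSnd (e : ℕ) : ℕ := Nat.shiftRight e 120

/-- A conjugate of a code. -/
def conjC (h x : ℕ) : ℕ := pcomp h (pcomp x (pinv h))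

/-- Validity of a certificate. -/
def certOK (c0 e : ℕ) : Bool :=
  Bool.rec false (sameCode (certFst e) (conjC (certSnd e) c0)) (isM24 (certSnd e))

theorem good_of_sameCode {π σ : ℕ} (h : sameCode π σ = true) (hs : permOK σ = true) : permOK π = true := by
  apply permOK_of_good
  have hg := good_of_permOK hs
  constructor
  · intro i hi
    rw [sameCode_spec h hi]
    exact hg.1 i hi
  · intro i hi j hj hij
    rw [sameCode_spec h hi, sameCode_spec h hj] at hij
    exact hg.2 i hi j hj hij

theorem certOK_spec {c0 e : ℕ} (h0 : permOK c0 = true) (h : certOK c0 e = true) :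
    P (certSnd e) ∈ M24 ∧ permOK (certFst e) = true ∧
      P (certFst e) = P (certSnd e) * P c0 * (P (certSnd e))⁻¹ := by
  unfold certOK at h
  cases h1 : isM24 (certSnd e) with
  | false => rw [h1] at h; cases h
  | true =>
    rw [h1] at h
    have h2 : sameCode (certFst e) (conjC (certSnd e) c0) = true := h
    have hok := isM24_permOK h1
    have h3 : permOK (conjC (certSnd e) c0) = true :=
      permOK_pcomp hok (permOK_pcomp h0 (permOK_pinv hok))
    have h4 := good_of_sameCode h2 h3
    refine ⟨P_mem_M24 h1, h4, ?_⟩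
    rw [P_eq_of_sameCode h4 h3 h2]
    unfold conjC
    rw [P_pcomp hok (permOK_pcomp h0 (permOK_pinv hok)), P_pcomp h0 (permOK_pinv hok), P_pinv hok, mul_assoc]

/-- Using a certificate list. -/
theorem conj_of_anyF {g : Equiv.Perm GolayPt} {e : ℕ → ℕ} (hr : Rep g e) {c0 : ℕ} {l : List ℕ}
    (h0 : permOK c0 = true) (hl : allL (certOK c0) l = true)
    (hany : anyF e (l.map certFst) = true) :
    ∃ k ∈ M24, k * g * k⁻¹ = P c0 := by
  obtain ⟨x, hx, hs⟩ := anyF_spec hany
  obtain ⟨y, hy, rfl⟩ := List.mem_map.1 hx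
  obtain ⟨h1, h2, h3⟩ := certOK_spec h0 (allL_spec hl y hy)
  refine ⟨(P (certSnd y))⁻¹, M24.inv_mem h1, ?_⟩
  rw [eq_of_sameF hr hs h2, h3]
  group

/-! ### Enumeration of the 48-group and of the cosets of the four-point stabiliser -/

theorem H48L_eq : H48L = T6.flatMap (fun a => T7.map (pcomp a)) := by decide +kernel

theorem exists_H48 {g : Equiv.Perm GolayPt} (hg : g ∈ fixG [3, 2, 1, 0, 23]) :
    ∃ c ∈ H48L, permOK c = true ∧ g = P c := by
  obtain ⟨a, ha, hfa, g1, hg1, e1⟩ := level6.exists_mul hg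
  obtain ⟨b, hb, hfb, g2, hg2, e2⟩ := level7.exists_mul hg1
  have : g2 = 1 := by
    have h : g2 ∈ fixG baseL := hg2
    rw [fix_base_trivial] at h
    exact h
  have hoa := isM24_permOK (isFix_isM24 hfa)
  have hob := isM24_permOK (isFix_isM24 hfb)
  refine ⟨pcomp a b, ?_, permOK_pcomp hoa hob, ?_⟩
  · rw [H48L_eq, List.mem_flatMap]
    exact ⟨a, ha, List.mem_map.2 ⟨b, hb, rfl⟩⟩
  · rw [P_pcomp hoa hob, e1, e2, this, mul_one]

theorem exists_T5_H48 {g : Equiv.Perm GolayPt} (hg : g ∈ fixG [2, 1, 0, 23]) :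
    ∃ a ∈ T5, permOK a = true ∧ ∃ c ∈ H48L, permOK c = true ∧ g = P a * P c := by
  obtain ⟨a, ha, hfa, g1, hg1, e1⟩ := level5.exists_mul hg
  obtain ⟨c, hc, hcok, e2⟩ := exists_H48 hg1
  exact ⟨a, ha, isM24_permOK (isFix_isM24 hfa), c, hc, hcok, by rw [e1, e2]⟩

/-- Elements of `M24` which agree with a code on four base points. -/
theorem exists_coset4 {w : ℕ} (hw : isM24 w = true) {g : Equiv.Perm GolayPt} (hg : g ∈ M24)
    (h : ∀ i ∈ [2, 1, 0, 23], g (pt i) = P w (pt i)) :
    ∃ a ∈ T5, ∃ c ∈ H48L, Rep g (fun i => pa w (pa a (pa c i))) := by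
  have hmem : (P w)⁻¹ * g ∈ fixG [2, 1, 0, 23] := by
    refine ⟨M24.mul_mem (M24.inv_mem (P_mem_M24 hw)) hg, ?_⟩
    intro i hi
    rw [Equiv.Perm.mul_apply, h i hi]
    simp
  obtain ⟨a, ha, hoa, c, hc, hoc, e⟩ := exists_T5_H48 hmem
  refine ⟨a, ha, c, hc, ?_⟩
  have : g = P w * (P a * P c) := by
    rw [← e]; simp
  rw [this]
  exact (rep_P (isM24_permOK hw)).mul ((rep_P hoa).mul (rep_P hoc))

/-- Test over the coset of the four-point stabiliser. -/
def allCos4 (w : ℕ) (f : (ℕ → ℕ) → Bool) : Bool :=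
  allL (fun a => allL (fun c => f (fun i => pa w (pa a (pa c i)))) H48L) T5

theorem allCos4_spec {w : ℕ} {f : (ℕ → ℕ) → Bool} (hf : allCos4 w f = true) (hw : isM24 w = true)
    {g : Equiv.Perm GolayPt} (hg : g ∈ M24) (h : ∀ i ∈ [2, 1, 0, 23], g (pt i) = P w (pt i)) :
    ∃ e, Rep g e ∧ f e = true := by
  obtain ⟨a, ha, c, hc, hr⟩ := exists_coset4 hw hg h
  exact ⟨_, hr, allL_spec (allL_spec hf a ha) c hc⟩

/-! ### Moving points to the base -/

/-- The base as a function. -/
def b5 : Fin 5 → GolayPt := ![pt 23, pt 0, pt 1, pt 2, pt 3]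

theorem b5_inj : Function.Injective b5 := by decide

theorem exists_to_base {x : Fin 5 → GolayPt} (hx : Function.Injective x) :
    ∃ k ∈ M24, ∀ i, k (x i) = b5 i :=
  five_transitive x b5 hx b5_inj

/-- Conjugation preserves the number of fixed points. -/
theorem card_fix_conj (g k : Equiv.Perm GolayPt) :
    (Finset.univ.filter fun p => (k * g * k⁻¹) p = p).card =
      (Finset.univ.filter fun p => g p = p).card := by
  apply Finset.card_bij' (fun p _ => k⁻¹ p) (fun p _ => k p)
  · intro p hp
    have hp' : k (g (k⁻¹ p)) = p := (Finset.mem_filter.1 hp).2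
    have : g (k⁻¹ p) = k⁻¹ p := by rw [Equiv.Perm.eq_inv_iff_eq]; exact hp'
    exact Finset.mem_filter.2 ⟨Finset.mem_univ _, this⟩
  · intro p hp
    have hp' : g p = p := (Finset.mem_filter.1 hp).2
    rw [Finset.mem_filter]
    refine ⟨Finset.mem_univ _, ?_⟩
    simp [Equiv.Perm.mul_apply, hp']
  · intro p _
    simp
  · intro p _
    simp

/-- Five points in a set. -/
theorem exists_five_of_card {s : Finset GolayPt} (h : 5 ≤ s.card) :
    ∃ x : Fin 5 → GolayPt, Function.Injective x ∧ ∀ i, x i ∈ s := by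
  obtain ⟨t, ht, hc⟩ := Finset.exists_subset_card_eq h
  let e := t.equivFinOfCardEq hc
  exact ⟨fun i => (e.symm i : GolayPt), fun i j hij => e.symm.injective (Subtype.ext hij),
    fun i => ht (e.symm i).2⟩

/-- An element with at least five fixed points is conjugate into the 48-group. -/
theorem exists_conj_H48 {g : Equiv.Perm GolayPt} (hg : g ∈ M24)
    (h5 : 5 ≤ (Finset.univ.filter fun p => g p = p).card) :
    ∃ k ∈ M24, ∃ c ∈ H48L, permOK c = true ∧ k * g * k⁻¹ = P c := by
  obtain ⟨x, hx, hmem⟩ := exists_five_of_card h5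
  obtain ⟨k, hk, hki⟩ := exists_to_base hx
  have hfix : ∀ i, (k * g * k⁻¹) (b5 i) = b5 i := by
    intro i
    have h1 : g (x i) = x i := by simpa using hmem i
    rw [← hki i]
    simp [Equiv.Perm.mul_apply, h1]
  have hmem' : k * g * k⁻¹ ∈ fixG [3, 2, 1, 0, 23] := by
    refine ⟨M24.mul_mem (M24.mul_mem hk hg) (M24.inv_mem hk), ?_⟩
    intro i hi
    simp only [List.mem_cons, List.not_mem_nil, or_false] at hi
    rcases hi with rfl | rfl | rfl | rfl | rfl
    · exact hfix 4
    · exact hfix 3
    · exact hfix 2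
    · exact hfix 1
    · exact hfix 0
  obtain ⟨c, hc, hok, e⟩ := exists_H48 hmem'
  exact ⟨k, hk, c, hc, hok, e⟩

/-! ### The class 3A -/

theorem c3A_ok : isM24 c3A = true := by decide +kernel
theorem c2A_ok : isM24 c2A = true := by decide +kernel
theorem c3B_ok : isM24 c3B = true := by decide +kernel
theorem c2B_ok : isM24 c2B = true := by decide +kernel
theorem c7_ok : isM24 c7 = true := by decide +kernel
theorem c7i_ok : isM24 c7i = true := by decide +kernel
theorem w3B_ok : isM24 w3B = true := by decide +kernel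
theorem w2B_ok : isM24 w2B = true := by decide +kernel
theorem w3F_ok : isM24 w3F = true := by decide +kernel

theorem certs3A_ok : allL (certOK c3A) certs3A = true := by decide +kernel
theorem certs2A_ok : allL (certOK c2A) certs2A = true := by decide +kernel
theorem certs3B_ok : allL (certOK c3B) certs3B = true := by decide +kernel
theorem certs2B_ok : allL (certOK c2B) certs2B = true := by decide +kernel
theorem certs7a_ok : allL (certOK c7) certs7a = true := by decide +kernel
theorem certs7b_ok : allL (certOK c7i) certs7b = true := by decide +kernel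

theorem H48_3A : allL (fun c => Bool.rec true (Bool.rec (anyF (pa c) (certs3A.map certFst)) true (idF (pa c)))
    (pow3F (pa c))) H48L = true := by decide +kernel

theorem H48_2A : allL (fun c => Bool.rec true (Bool.rec (anyF (pa c) (certs2A.map certFst)) true (idF (pa c)))
    (pow2F (pa c))) H48L = true := by decide +kernel

theorem pow3_of_order {g : Equiv.Perm GolayPt} (h : orderOf g = 3) : g ^ 3 = 1 := by
  rw [← h]; exact pow_orderOf_eq_one g

theorem pow2_of_order {g : Equiv.Perm GolayPt} (h : orderOf g = 2) : g ^ 2 = 1 := by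
  rw [← h]; exact pow_orderOf_eq_one g

theorem ne_one_of_order {g : Equiv.Perm GolayPt} {n : ℕ} (hn : n ≠ 1) (h : orderOf g = n) : g ≠ 1 := by
  rintro rfl
  rw [orderOf_one] at h
  exact hn h.symm

theorem orderOf_conj' (k g : Equiv.Perm GolayPt) : orderOf (k * g * k⁻¹) = orderOf g := by
  have := orderOf_injective (MulAut.conj k).toMonoidHom (MulAut.conj k).injective g
  simpa [MulAut.conj_apply] using this

/-- Elements of order 3 with at least five fixed points are conjugate to `c3A`. -/
theorem rep3A {g : Equiv.Perm GolayPt} (hg : g ∈ M24) (h3 : orderOf g = 3)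
    (h5 : 5 ≤ (Finset.univ.filter fun p => g p = p).card) : ∃ k ∈ M24, k * g * k⁻¹ = P c3A := by
  obtain ⟨k, hk, c, hc, hok, e⟩ := exists_conj_H48 hg h5
  have hr : Rep (P c) (pa c) := rep_P hok
  have h3' : orderOf (P c) = 3 := by rw [← e, orderOf_conj', h3]
  have hp := pow3F_of hr (pow3_of_order h3')
  have hn := not_idF_of hr (ne_one_of_order (by norm_num) h3')
  have ht := allL_spec H48_3A c hc
  simp only [hp, hn] at ht
  obtain ⟨k2, hk2, e2⟩ := conj_of_anyF hr (isM24_permOK c3A_ok) certs3A_ok ht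
  refine ⟨k2 * k, M24.mul_mem hk2 hk, ?_⟩
  rw [← e2, ← e]
  group

/-- Involutions with at least five fixed points are conjugate to `c2A`. -/
theorem rep2A {g : Equiv.Perm GolayPt} (hg : g ∈ M24) (h2 : orderOf g = 2)
    (h5 : 5 ≤ (Finset.univ.filter fun p => g p = p).card) : ∃ k ∈ M24, k * g * k⁻¹ = P c2A := by
  obtain ⟨k, hk, c, hc, hok, e⟩ := exists_conj_H48 hg h5
  have hr : Rep (P c) (pa c) := rep_P hok
  have h3' : orderOf (P c) = 2 := by rw [← e, orderOf_conj', h2]
  have hp := pow2F_of hr (pow2_of_order h3')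
  have hn := not_idF_of hr (ne_one_of_order (by norm_num) h3')
  have ht := allL_spec H48_2A c hc
  simp only [hp, hn] at ht
  obtain ⟨k2, hk2, e2⟩ := conj_of_anyF hr (isM24_permOK c2A_ok) certs2A_ok ht
  refine ⟨k2 * k, M24.mul_mem hk2 hk, ?_⟩
  rw [← e2, ← e]
  group

theorem coset_3B : allCos4 w3B (fun e => Bool.rec true
    (Bool.rec true (anyF e (certs3B.map certFst)) (fpfF e)) (pow3F e)) = true := by decide +kernel

theorem coset_2B : allCos4 w2B (fun e => Bool.rec true
    (Bool.rec true (anyF e (certs2B.map certFst)) (fpfF e)) (pow2F e)) = true := by decide +kernel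

theorem exists_ne3 (a b c : GolayPt) : ∃ d, d ≠ a ∧ d ≠ b ∧ d ≠ c := by
  classical
  have hcard : ({a, b, c} : Finset GolayPt).card < (Finset.univ : Finset GolayPt).card := by
    refine lt_of_le_of_lt Finset.card_le_three ?_
    simp [Finset.card_univ]
  obtain ⟨r, -, hr⟩ := Finset.exists_mem_notMem_of_card_lt_card hcard
  simp only [Finset.mem_insert, Finset.mem_singleton, not_or] at hr
  exact ⟨r, hr.1, hr.2.1, hr.2.2⟩

theorem exists_ne4 (a b c d : GolayPt) : ∃ e, e ≠ a ∧ e ≠ b ∧ e ≠ c ∧ e ≠ d := by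
  classical
  have hcard : ({a, b, c, d} : Finset GolayPt).card < (Finset.univ : Finset GolayPt).card := by
    refine lt_of_le_of_lt Finset.card_le_four ?_
    simp [Finset.card_univ]
  obtain ⟨r, -, hr⟩ := Finset.exists_mem_notMem_of_card_lt_card hcard
  simp only [Finset.mem_insert, Finset.mem_singleton, not_or] at hr
  exact ⟨r, hr.1, hr.2.1, hr.2.2.1, hr.2.2.2⟩

/-- Elements of order 3 without fixed points are conjugate to `c3B`. -/
theorem rep3B {g : Equiv.Perm GolayPt} (hg : g ∈ M24) (h3 : orderOf g = 3)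
    (hf : ∀ p, g p ≠ p) : ∃ k ∈ M24, k * g * k⁻¹ = P c3B := by
  have hg3 : g ^ 3 = 1 := pow3_of_order h3
  have hggg : ∀ p, g (g (g p)) = p := by
    intro p
    have := congrArg (fun f : Equiv.Perm GolayPt => f p) hg3
    simpa [pow_succ] using this
  -- points
  let a : GolayPt := pt 23
  have h1 : g a ≠ a := hf a
  have h2 : g (g a) ≠ a := by
    intro h
    apply hf (g (g a))
    rw [hggg, h]
  have h21 : g (g a) ≠ g a := hf (g a)
  obtain ⟨d, hd0, hd1, hd2⟩ := exists_ne3 a (g a) (g (g a))
  have he0 : g d ≠ a := by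
    intro h
    apply hd2
    have := congrArg (fun x => g (g x)) h
    simp only [hggg] at this
    exact this
  have he1 : g d ≠ g a := fun h => hd0 (g.injective h)
  have he2 : g d ≠ g (g a) := fun h => hd1 (g.injective h)
  have he3 : g d ≠ d := hf d
  let x : Fin 5 → GolayPt := ![a, g a, g (g a), d, g d]
  have hx : Function.Injective x := by
    intro i j hij
    fin_cases i <;> fin_cases j <;> first
      | rfl
      | (exfalso
         simp only [x, Fin.reduceFinMk, Matrix.cons_val] at hij
         first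
          | exact h1 hij | exact h1 hij.symm | exact h2 hij | exact h2 hij.symm
          | exact h21 hij | exact h21 hij.symm | exact hd0 hij | exact hd0 hij.symm
          | exact hd1 hij | exact hd1 hij.symm | exact hd2 hij | exact hd2 hij.symm
          | exact he0 hij | exact he0 hij.symm | exact he1 hij | exact he1 hij.symm
          | exact he2 hij | exact he2 hij.symm | exact he3 hij | exact he3 hij.symm)
  obtain ⟨k, hk, hki⟩ := exists_to_base hx
  have e0 : k a = pt 23 := hki 0
  have e1 : k (g a) = pt 0 := hki 1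
  have e2 : k (g (g a)) = pt 1 := hki 2
  have e3 : k d = pt 2 := hki 3
  have e4 : k (g d) = pt 3 := hki 4
  have hconj : ∀ p, (k * g * k⁻¹) (k p) = k (g p) := by intro p; simp
  have hmem : k * g * k⁻¹ ∈ M24 := M24.mul_mem (M24.mul_mem hk hg) (M24.inv_mem hk)
  have hok := isM24_permOK w3B_ok
  have hw : ∀ i ∈ [2, 1, 0, 23], (k * g * k⁻¹) (pt i) = P w3B (pt i) := by
    intro i hi
    simp only [List.mem_cons, List.not_mem_nil, or_false] at hi
    rcases hi with rfl | rfl | rfl | rfl
    · rw [← e3, hconj, e4, e3, P_pt hok (by norm_num), (by decide +kernel : pa w3B 2 = 3)]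
    · rw [← e2, hconj, hggg, e0, e2, P_pt hok (by norm_num), (by decide +kernel : pa w3B 1 = 23)]
    · rw [← e1, hconj, e2, e1, P_pt hok (by norm_num), (by decide +kernel : pa w3B 0 = 1)]
    · rw [← e0, hconj, e1, e0, P_pt hok (by norm_num), (by decide +kernel : pa w3B 23 = 0)]
  obtain ⟨e, hr, ht⟩ := allCos4_spec coset_3B w3B_ok hmem hw
  have hp : pow3F e = true := pow3F_of hr (by rw [← orderOf_conj' k g] at h3; exact pow3_of_order h3)
  have hq : fpfF e = true := fpfF_of hr (by
    intro p hp'
    apply hf (k⁻¹ p)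
    have : k (g (k⁻¹ p)) = p := by simpa using hp'
    rw [← Equiv.Perm.eq_inv_iff_eq] at this
    exact this)
  simp only [hp, hq] at ht
  obtain ⟨k2, hk2, e2'⟩ := conj_of_anyF hr (isM24_permOK c3B_ok) certs3B_ok ht
  refine ⟨k2 * k, M24.mul_mem hk2 hk, ?_⟩
  rw [← e2']
  group

/-- Involutions without fixed points are conjugate to `c2B`. -/
theorem rep2B {g : Equiv.Perm GolayPt} (hg : g ∈ M24) (h2o : orderOf g = 2)
    (hf : ∀ p, g p ≠ p) : ∃ k ∈ M24, k * g * k⁻¹ = P c2B := by
  have hg2 : g ^ 2 = 1 := pow2_of_order h2o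
  have hgg : ∀ p, g (g p) = p := by
    intro p
    have := congrArg (fun f : Equiv.Perm GolayPt => f p) hg2
    simpa [pow_succ] using this
  let a : GolayPt := pt 23
  have h1 : g a ≠ a := hf a
  obtain ⟨d, hd0, hd1, -⟩ := exists_ne3 a (g a) a
  have he0 : g d ≠ a := by
    intro h
    apply hd1
    rw [← h, hgg]
  have he1 : g d ≠ g a := fun h => hd0 (g.injective h)
  have he3 : g d ≠ d := hf d
  obtain ⟨q, hq0, hq1, hq2, hq3⟩ := exists_ne4 a (g a) d (g d)
  let x : Fin 5 → GolayPt := ![a, g a, d, g d, q]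
  have hx : Function.Injective x := by
    intro i j hij
    fin_cases i <;> fin_cases j <;> first
      | rfl
      | (exfalso
         simp only [x, Fin.reduceFinMk, Matrix.cons_val] at hij
         first
          | exact h1 hij | exact h1 hij.symm | exact hd0 hij | exact hd0 hij.symm
          | exact hd1 hij | exact hd1 hij.symm
          | exact he0 hij | exact he0 hij.symm | exact he1 hij | exact he1 hij.symm
          | exact he3 hij | exact he3 hij.symm
          | exact hq0 hij | exact hq0 hij.symm | exact hq1 hij | exact hq1 hij.symm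
          | exact hq2 hij | exact hq2 hij.symm | exact hq3 hij | exact hq3 hij.symm)
  obtain ⟨k, hk, hki⟩ := exists_to_base hx
  have e0 : k a = pt 23 := hki 0
  have e1 : k (g a) = pt 0 := hki 1
  have e2 : k d = pt 1 := hki 2
  have e3 : k (g d) = pt 2 := hki 3
  have hconj : ∀ p, (k * g * k⁻¹) (k p) = k (g p) := by intro p; simp
  have hmem : k * g * k⁻¹ ∈ M24 := M24.mul_mem (M24.mul_mem hk hg) (M24.inv_mem hk)
  have hok := isM24_permOK w2B_ok
  have hw : ∀ i ∈ [2, 1, 0, 23], (k * g * k⁻¹) (pt i) = P w2B (pt i) := by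
    intro i hi
    simp only [List.mem_cons, List.not_mem_nil, or_false] at hi
    rcases hi with rfl | rfl | rfl | rfl
    · rw [← e3, hconj, hgg, e2, e3, P_pt hok (by norm_num), (by decide +kernel : pa w2B 2 = 1)]
    · rw [← e2, hconj, e3, e2, P_pt hok (by norm_num), (by decide +kernel : pa w2B 1 = 2)]
    · rw [← e1, hconj, hgg, e0, e1, P_pt hok (by norm_num), (by decide +kernel : pa w2B 0 = 23)]
    · rw [← e0, hconj, e1, e0, P_pt hok (by norm_num), (by decide +kernel : pa w2B 23 = 0)]
  obtain ⟨e, hr, ht⟩ := allCos4_spec coset_2B w2B_ok hmem hw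
  have hp : pow2F e = true := pow2F_of hr (by rw [← orderOf_conj' k g] at h2o; exact pow2_of_order h2o)
  have hq : fpfF e = true := fpfF_of hr (by
    intro p hp'
    apply hf (k⁻¹ p)
    have : k (g (k⁻¹ p)) = p := by simpa using hp'
    rw [← Equiv.Perm.eq_inv_iff_eq] at this
    exact this)
  simp only [hp, hq] at ht
  obtain ⟨k2, hk2, e2'⟩ := conj_of_anyF hr (isM24_permOK c2B_ok) certs2B_ok ht
  refine ⟨k2 * k, M24.mul_mem hk2 hk, ?_⟩
  rw [← e2']
  group

theorem fix_modEq (g : Equiv.Perm GolayPt) (p : ℕ) [hp : Fact p.Prime] (h : g ^ p = 1) :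
    (Finset.univ.filter fun x => g x = x).card ≡ 24 [MOD p] := by
  classical
  have hf : g ^ p ^ 1 = 1 := by rwa [pow_one]
  have := Equiv.Perm.card_compl_support_modEq hf
  have h24 : Fintype.card GolayPt = 24 := by decide
  rw [h24] at this
  convert this using 2
  ext x
  simp

theorem coset_fix3 : allCos4 w3F (fun e => Bool.rec true (Nat.beq (popc (fixMask e)) 6) (pow3F e)) = true := by
  decide +kernel

theorem coset_fix2 : allCos4 w2F (fun e => Bool.rec true (Nat.beq (popc (fixMask e)) 8) (pow2F e)) = true := by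
  decide +kernel

theorem w2F_ok : isM24 w2F = true := by decide +kernel

/-- Three distinct points in a set. -/
theorem exists_three_of_card {s : Finset GolayPt} (h : 3 ≤ s.card) :
    ∃ a b c, a ∈ s ∧ b ∈ s ∧ c ∈ s ∧ a ≠ b ∧ a ≠ c ∧ b ≠ c := by
  obtain ⟨t, ht, hc⟩ := Finset.exists_subset_card_eq h
  obtain ⟨a, b, c, hab, hac, hbc, rfl⟩ := Finset.card_eq_three.1 hc
  exact ⟨a, b, c, ht (by simp), ht (by simp), ht (by simp), hab, hac, hbc⟩

theorem exists_moved {g : Equiv.Perm GolayPt} (h : g ≠ 1) : ∃ a, g a ≠ a := by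
  by_contra hc
  push_neg at hc
  exact h (Equiv.ext hc)

/-- Elements of order 3 with at least three fixed points have exactly 6. -/
theorem fix_six_of_three {g : Equiv.Perm GolayPt} (hg : g ∈ M24) (h3 : orderOf g = 3)
    (hc : 3 ≤ (Finset.univ.filter fun p => g p = p).card) :
    (Finset.univ.filter fun p => g p = p).card = 6 := by
  obtain ⟨p, q, r, hp, hq, hr, hpq, hpr, hqr⟩ := exists_three_of_card hc
  have hp' : g p = p := (Finset.mem_filter.1 hp).2
  have hq' : g q = q := (Finset.mem_filter.1 hq).2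
  have hr' : g r = r := (Finset.mem_filter.1 hr).2
  obtain ⟨a, ha⟩ := exists_moved (ne_one_of_order (by norm_num : (3 : ℕ) ≠ 1) h3)
  have hap : a ≠ p := by rintro rfl; exact ha hp'
  have haq : a ≠ q := by rintro rfl; exact ha hq'
  have har : a ≠ r := by rintro rfl; exact ha hr'
  have hbp : g a ≠ p := fun h => hap (g.injective (h.trans hp'.symm))
  have hbq : g a ≠ q := fun h => haq (g.injective (h.trans hq'.symm))
  have hbr : g a ≠ r := fun h => har (g.injective (h.trans hr'.symm))
  let x : Fin 5 → GolayPt := ![p, q, r, a, g a]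
  have hx : Function.Injective x := by
    intro i j hij
    fin_cases i <;> fin_cases j <;> first
      | rfl
      | (exfalso
         simp only [x, Fin.reduceFinMk, Matrix.cons_val] at hij
         first
          | exact hpq hij | exact hpq hij.symm | exact hpr hij | exact hpr hij.symm
          | exact hqr hij | exact hqr hij.symm | exact ha hij | exact ha hij.symm
          | exact hap hij | exact hap hij.symm | exact haq hij | exact haq hij.symm
          | exact har hij | exact har hij.symm | exact hbp hij | exact hbp hij.symm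
          | exact hbq hij | exact hbq hij.symm | exact hbr hij | exact hbr hij.symm)
  obtain ⟨k, hk, hki⟩ := exists_to_base hx
  have e0 : k p = pt 23 := hki 0
  have e1 : k q = pt 0 := hki 1
  have e2 : k r = pt 1 := hki 2
  have e3 : k a = pt 2 := hki 3
  have e4 : k (g a) = pt 3 := hki 4
  have hconj : ∀ p, (k * g * k⁻¹) (k p) = k (g p) := by intro p; simp
  have hmem : k * g * k⁻¹ ∈ M24 := M24.mul_mem (M24.mul_mem hk hg) (M24.inv_mem hk)
  have hok := isM24_permOK w3F_ok
  have hw : ∀ i ∈ [2, 1, 0, 23], (k * g * k⁻¹) (pt i) = P w3F (pt i) := by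
    intro i hi
    simp only [List.mem_cons, List.not_mem_nil, or_false] at hi
    rcases hi with rfl | rfl | rfl | rfl
    · rw [← e3, hconj, e4, e3, P_pt hok (by norm_num), (by decide +kernel : pa w3F 2 = 3)]
    · rw [← e2, hconj, hr', e2, P_pt hok (by norm_num), (by decide +kernel : pa w3F 1 = 1)]
    · rw [← e1, hconj, hq', e1, P_pt hok (by norm_num), (by decide +kernel : pa w3F 0 = 0)]
    · rw [← e0, hconj, hp', e0, P_pt hok (by norm_num), (by decide +kernel : pa w3F 23 = 23)]
  obtain ⟨e, hr2, ht⟩ := allCos4_spec coset_fix3 w3F_ok hmem hw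
  have hp3 : pow3F e = true := pow3F_of hr2 (by rw [← orderOf_conj' k g] at h3; exact pow3_of_order h3)
  simp only [hp3] at ht
  rw [← card_fix_conj g k, card_fix_eq hr2]
  exact Nat.eq_of_beq_eq_true ht

/-- The possible numbers of fixed points of an element of order 3. -/
theorem fix_order3 {g : Equiv.Perm GolayPt} (hg : g ∈ M24) (h3 : orderOf g = 3) :
    (Finset.univ.filter fun p => g p = p).card = 0 ∨ (Finset.univ.filter fun p => g p = p).card = 6 := by
  by_cases hc : 3 ≤ (Finset.univ.filter fun p => g p = p).card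
  · exact Or.inr (fix_six_of_three hg h3 hc)
  · left
    haveI : Fact (Nat.Prime 3) := ⟨by norm_num⟩
    have := fix_modEq g 3 (pow3_of_order h3)
    unfold Nat.ModEq at this
    omega

/-- Involutions with at least two fixed points have exactly 8. -/
theorem fix_eight_of_two {g : Equiv.Perm GolayPt} (hg : g ∈ M24) (h2 : orderOf g = 2)
    (hc : 2 ≤ (Finset.univ.filter fun p => g p = p).card) :
    (Finset.univ.filter fun p => g p = p).card = 8 := by
  have hg2 : g ^ 2 = 1 := pow2_of_order h2
  have hgg : ∀ p, g (g p) = p := by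
    intro p
    have := congrArg (fun f : Equiv.Perm GolayPt => f p) hg2
    simpa [pow_succ] using this
  obtain ⟨t, ht, htc⟩ := Finset.exists_subset_card_eq hc
  obtain ⟨p, q, hpq, rfl⟩ := Finset.card_eq_two.1 htc
  have hp' : g p = p := (Finset.mem_filter.1 (ht (by simp))).2
  have hq' : g q = q := (Finset.mem_filter.1 (ht (by simp))).2
  obtain ⟨a, ha⟩ := exists_moved (ne_one_of_order (by norm_num : (2 : ℕ) ≠ 1) h2)
  have hap : a ≠ p := by rintro rfl; exact ha hp'
  have haq : a ≠ q := by rintro rfl; exact ha hq'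
  have hbp : g a ≠ p := fun h => hap (g.injective (h.trans hp'.symm))
  have hbq : g a ≠ q := fun h => haq (g.injective (h.trans hq'.symm))
  obtain ⟨r, hr0, hr1, hr2, hr3⟩ := exists_ne4 p q a (g a)
  let x : Fin 5 → GolayPt := ![p, q, a, g a, r]
  have hx : Function.Injective x := by
    intro i j hij
    fin_cases i <;> fin_cases j <;> first
      | rfl
      | (exfalso
         simp only [x, Fin.reduceFinMk, Matrix.cons_val] at hij
         first
          | exact hpq hij | exact hpq hij.symm | exact ha hij | exact ha hij.symm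
          | exact hap hij | exact hap hij.symm | exact haq hij | exact haq hij.symm
          | exact hbp hij | exact hbp hij.symm | exact hbq hij | exact hbq hij.symm
          | exact hr0 hij | exact hr0 hij.symm | exact hr1 hij | exact hr1 hij.symm
          | exact hr2 hij | exact hr2 hij.symm | exact hr3 hij | exact hr3 hij.symm)
  obtain ⟨k, hk, hki⟩ := exists_to_base hx
  have e0 : k p = pt 23 := hki 0
  have e1 : k q = pt 0 := hki 1
  have e2 : k a = pt 1 := hki 2
  have e3 : k (g a) = pt 2 := hki 3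
  have hconj : ∀ p, (k * g * k⁻¹) (k p) = k (g p) := by intro p; simp
  have hmem : k * g * k⁻¹ ∈ M24 := M24.mul_mem (M24.mul_mem hk hg) (M24.inv_mem hk)
  have hok := isM24_permOK w2F_ok
  have hw : ∀ i ∈ [2, 1, 0, 23], (k * g * k⁻¹) (pt i) = P w2F (pt i) := by
    intro i hi
    simp only [List.mem_cons, List.not_mem_nil, or_false] at hi
    rcases hi with rfl | rfl | rfl | rfl
    · rw [← e3, hconj, hgg, e2, e3, P_pt hok (by norm_num), (by decide +kernel : pa w2F 2 = 1)]
    · rw [← e2, hconj, e3, e2, P_pt hok (by norm_num), (by decide +kernel : pa w2F 1 = 2)]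
    · rw [← e1, hconj, hq', e1, P_pt hok (by norm_num), (by decide +kernel : pa w2F 0 = 0)]
    · rw [← e0, hconj, hp', e0, P_pt hok (by norm_num), (by decide +kernel : pa w2F 23 = 23)]
  obtain ⟨e, hr4, ht2⟩ := allCos4_spec coset_fix2 w2F_ok hmem hw
  have hp3 : pow2F e = true := pow2F_of hr4 (by rw [← orderOf_conj' k g] at h2; exact pow2_of_order h2)
  simp only [hp3] at ht2
  rw [← card_fix_conj g k, card_fix_eq hr4]
  exact Nat.eq_of_beq_eq_true ht2

/-- The possible numbers of fixed points of an involution. -/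
theorem fix_order2 {g : Equiv.Perm GolayPt} (hg : g ∈ M24) (h2 : orderOf g = 2) :
    (Finset.univ.filter fun p => g p = p).card = 0 ∨ (Finset.univ.filter fun p => g p = p).card = 8 := by
  by_cases hc : 2 ≤ (Finset.univ.filter fun p => g p = p).card
  · exact Or.inr (fix_eight_of_two hg h2 hc)
  · left
    haveI : Fact (Nat.Prime 2) := ⟨by norm_num⟩
    have := fix_modEq g 2 (pow2_of_order h2)
    unfold Nat.ModEq at this
    omega

theorem fixed_filter_empty {g : Equiv.Perm GolayPt}
    (h : (Finset.univ.filter fun p => g p = p).card = 0) (p : GolayPt) : g p ≠ p := by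
  intro hp
  have : p ∈ Finset.univ.filter fun p => g p = p := Finset.mem_filter.2 ⟨Finset.mem_univ _, hp⟩
  rw [Finset.card_eq_zero.1 h] at this
  cases this

/-- Transport of the number of fixed objects under conjugation. -/
theorem ncard_fixed_conj {β : Type*} [MulAction (Equiv.Perm GolayPt) β] (A : Set β)
    {k : Equiv.Perm GolayPt} (hA : ∀ x ∈ A, k • x ∈ A) (hA' : ∀ x ∈ A, k⁻¹ • x ∈ A)
    (g : Equiv.Perm GolayPt) :
    {x | x ∈ A ∧ (k * g * k⁻¹) • x = x}.ncard = {x | x ∈ A ∧ g • x = x}.ncard := by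
  symm
  apply Set.ncard_congr (fun x _ => k • x)
  · rintro x ⟨h1, h2⟩
    refine ⟨hA x h1, ?_⟩
    rw [mul_smul, mul_smul, inv_smul_smul, h2]
  · intro a b _ _ h
    exact MulAction.injective k h
  · rintro y ⟨h1, h2⟩
    refine ⟨k⁻¹ • y, ⟨hA' y h1, ?_⟩, smul_inv_smul k y⟩
    rw [mul_smul, mul_smul] at h2
    have := congrArg (fun z => k⁻¹ • z) h2
    simpa using this

end Cfsg.Agent.H27.Golay
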