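import Cfsg.Agent.Lib.H27.GolayCounts

/-!
# Orders of code elements, small helpers for subgroups of `M24`
-/

set_option autoImplicit false
set_option maxRecDepth 100000

namespace Cfsg.Agent.H27.Golay

open Cfsg
open scoped Pointwise

theorem order3_of_tests {c : ℕ} (hok : permOK c = true) (h3 : pow3F (pa c) = true)
    (hn : idF (pa c) = false) : orderOf (P c) = 3 := by
  haveI : Fact (Nat.Prime 3) := ⟨by norm_num⟩
  have hr := rep_P hok
  apply orderOf_eq_prime
  · ext p
    have h1 := Nat.eq_of_beq_eq_true (allBelow_spec h3 _ (idx_lt p))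
    simp only [pow_succ, pow_zero, one_mul, Equiv.Perm.mul_apply, Equiv.Perm.coe_one, id_eq]
    rw [hr.apply, P_apply hok, P_apply hok]
    rw [idx_pt' (pa_lt hok (idx_lt p)), idx_pt' (pa_lt hok (pa_lt hok (idx_lt p))), h1, pt_idx]
  · intro h
    have : idF (pa c) = true := by
      apply allBelow_of
      intro i hi
      have h2 := (rep_P hok i hi).2
      rw [h] at h2
      have h3 := congrArg idx h2
      rw [idx_pt' (pa_lt hok hi)] at h3
      simp only [Equiv.Perm.coe_one, id_eq, idx_pt' hi] at h3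
      rw [← h3]
      exact Nat.beq_refl _
    rw [hn] at this
    cases this

theorem order2_of_tests {c : ℕ} (hok : permOK c = true) (h3 : pow2F (pa c) = true)
    (hn : idF (pa c) = false) : orderOf (P c) = 2 := by
  haveI : Fact (Nat.Prime 2) := ⟨by norm_num⟩
  have hr := rep_P hok
  apply orderOf_eq_prime
  · ext p
    have h1 := Nat.eq_of_beq_eq_true (allBelow_spec h3 _ (idx_lt p))
    simp only [pow_succ, pow_zero, one_mul, Equiv.Perm.mul_apply, Equiv.Perm.coe_one, id_eq]
    rw [hr.apply, P_apply hok]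
    rw [idx_pt' (pa_lt hok (idx_lt p)), h1, pt_idx]
  · intro h
    have : idF (pa c) = true := by
      apply allBelow_of
      intro i hi
      have h2 := (rep_P hok i hi).2
      rw [h] at h2
      have h3 := congrArg idx h2
      rw [idx_pt' (pa_lt hok hi)] at h3
      simp only [Equiv.Perm.coe_one, id_eq, idx_pt' hi] at h3
      rw [← h3]
      exact Nat.beq_refl _
    rw [hn] at this
    cases this

theorem order_c3A : orderOf (P c3A) = 3 :=
  order3_of_tests (isM24_permOK c3A_ok) (by decide +kernel) (by decide +kernel)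

theorem order_c3B : orderOf (P c3B) = 3 :=
  order3_of_tests (isM24_permOK c3B_ok) (by decide +kernel) (by decide +kernel)

theorem order_c2A : orderOf (P c2A) = 2 :=
  order2_of_tests (isM24_permOK c2A_ok) (by decide +kernel) (by decide +kernel)

theorem order_c2B : orderOf (P c2B) = 2 :=
  order2_of_tests (isM24_permOK c2B_ok) (by decide +kernel) (by decide +kernel)

theorem fixcount_c3A : (Finset.univ.filter fun p => P c3A p = p).card = 6 := by
  rw [card_fix_eq (rep_P (isM24_permOK c3A_ok))]
  decide +kernel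

theorem fixcount_c3B : (Finset.univ.filter fun p => P c3B p = p).card = 0 := by
  rw [card_fix_eq (rep_P (isM24_permOK c3B_ok))]
  decide +kernel

theorem fixcount_c2A : (Finset.univ.filter fun p => P c2A p = p).card = 8 := by
  rw [card_fix_eq (rep_P (isM24_permOK c2A_ok))]
  decide +kernel

theorem fixcount_c2B : (Finset.univ.filter fun p => P c2B p = p).card = 0 := by
  rw [card_fix_eq (rep_P (isM24_permOK c2B_ok))]
  decide +kernel

/-- A cyclic subgroup of prime order of `M24` has a generator. -/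
theorem exists_gen_prime (X : Subgroup ↥M24) {q : ℕ} (hq : q.Prime) (hX : Nat.card X = q) :
    ∃ x : ↥M24, X = Subgroup.zpowers x ∧ orderOf (x : Equiv.Perm GolayPt) = q := by
  have : Fact (Nat.Prime (Nat.card X)) := ⟨by rw [hX]; exact hq⟩
  have hc : IsCyclic X := isCyclic_of_prime_card rfl
  obtain ⟨g, hg⟩ := IsCyclic.exists_generator (α := X)
  refine ⟨g.1, ?_, ?_⟩
  · ext y
    constructor
    · intro hy
      obtain ⟨n, hn⟩ := hg ⟨y, hy⟩
      refine ⟨n, ?_⟩
      have := congrArg Subtype.val hn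
      simpa using this
    · rintro ⟨n, rfl⟩
      exact X.zpow_mem g.2 n
  · have h1 : orderOf g = Nat.card X := orderOf_eq_card_of_forall_mem_zpowers hg
    rw [hX] at h1
    have h2 : orderOf g.1 = q := by rw [← h1]; exact Subgroup.orderOf_coe g
    have h3 : orderOf (g.1 : Equiv.Perm GolayPt) = q := by rw [← h2]; exact Subgroup.orderOf_coe g.1
    exact h3

theorem fixset_zpowers (x : ↥M24) :
    {p : GolayPt | ∀ y ∈ Subgroup.zpowers x, ((y : ↥M24) : Equiv.Perm GolayPt) p = p} =
      ((Finset.univ.filter fun p => (x : Equiv.Perm GolayPt) p = p : Finset GolayPt) : Set GolayPt) := by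
  ext p
  simp only [Set.mem_ofPred_eq, Finset.coe_filter, Finset.mem_univ, true_and]
  constructor
  · intro h
    exact h x (Subgroup.mem_zpowers x)
  · rintro h y ⟨n, rfl⟩
    have h2 : ∀ n : ℤ, ((x : Equiv.Perm GolayPt) ^ n) p = p := by
      intro n
      exact Equiv.Perm.zpow_apply_eq_self_of_apply_eq_self h n
    simpa using h2 n

theorem conj_zpowers (k x : ↥M24) :
    MulAut.conj k • Subgroup.zpowers x = Subgroup.zpowers (k * x * k⁻¹) := by
  ext y
  rw [Subgroup.mem_smul_pointwise_iff_exists]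
  constructor
  · rintro ⟨z, ⟨n, rfl⟩, rfl⟩
    exact ⟨n, by simp [MulAut.smul_def, MulAut.conj_apply]⟩
  · rintro ⟨n, rfl⟩
    exact ⟨x ^ n, ⟨n, rfl⟩, by simp [MulAut.smul_def, MulAut.conj_apply]⟩

/-- Two conjugates of a common element generate conjugate subgroups. -/
theorem exists_conj_zpowers {x y : ↥M24} {k l : Equiv.Perm GolayPt} (hk : k ∈ M24) (hl : l ∈ M24)
    (h : k * x * k⁻¹ = l * y * l⁻¹) :
    ∃ m : ↥M24, MulAut.conj m • Subgroup.zpowers x = Subgroup.zpowers y := by
  refine ⟨⟨l⁻¹ * k, M24.mul_mem (M24.inv_mem hl) hk⟩, ?_⟩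
  rw [conj_zpowers]
  congr 1
  apply Subtype.ext
  show l⁻¹ * k * x * (l⁻¹ * k)⁻¹ = y
  have h2 : l⁻¹ * k * x * (l⁻¹ * k)⁻¹ = l⁻¹ * (k * x * k⁻¹) * l := by group
  rw [h2, h]
  group

end Cfsg.Agent.H27.Golay
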