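import Cfsg.Agent.Lib.H27.GolayPhi

/-!
# Orbits of the stabiliser of the base octad
-/

set_option autoImplicit false
set_option maxRecDepth 100000

namespace Cfsg.Agent.H27.Golay

open Cfsg
open scoped Pointwise

theorem gensO_ok : allL (stabO O0) gensO = true := by decide +kernel

theorem gensO_spec {π : ℕ} (h : π ∈ gensO) : isM24 π = true ∧ P π • fs O0 = fs O0 :=
  stabO_spec (allL_spec gensO_ok π h)

theorem O0_lt : O0 < 2 ^ 24 := by decide +kernel

theorem famOf_O0 : famOf [O0] = {fs O0} := famOf_singleton _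

theorem nodup_single (m : ℕ) : ([m].map fs).Nodup := by simp

/-- The invariant for a family against the base octad. -/
theorem phi_inv_O {s : Equiv.Perm GolayPt} (h : s • fs O0 = fs O0) (A : Finset (Finset GolayPt)) :
    Phi (s • A) {fs O0} = Phi A {fs O0} := by
  have := Phi_smul s A {fs O0}
  rwa [Finset.smul_finset_singleton, h] at this

theorem reachOO : ∀ c ∈ octadL, ∃ r ∈ rootsOO, fs c ∈ Orb (fs O0) (fs r) :=
  forest_reach (fs O0) fs octadL actO gensO 24 (packL 24 octadL) infOO rootsOO
    (fun π hπ => ⟨P_mem_M24 (gensO_spec hπ).1, (gensO_spec hπ).2⟩)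
    (fun π hπ _ _ _ _ h => actO_spec (gensO_spec hπ).1 h)
    (by decide +kernel) (by decide +kernel) (by decide +kernel)

theorem certOO : OrbitCert (fs O0) octads fs octadL (fun x => Phi {x} {fs O0}) (fun m => sumSq [m] [O0]) rootsOO where
  hnd := octadL_nodup
  hinj := fs_inj_octadL
  hA := mem_octads_iff_list
  hφ := by
    intro m hm
    have := Phi_famOf (l1 := [m]) (l2 := [O0]) (nodup_single m) (nodup_single O0)
      (by simpa using octadL_lt hm)
    rwa [famOf_singleton, famOf_singleton] at this
  hinv := by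
    intro s _ h x _
    have := phi_inv_O h {x}
    rwa [Finset.smul_finset_singleton] at this
  hs := fun s hs x hx => smul_mem_octads hs hx
  reach := reachOO
  hroots := by decide +kernel
  hdist := distinct_of_injL (by decide +kernel)

theorem reachOT : ∀ c ∈ trioL, ∃ r ∈ rootsOT, tr c ∈ Orb (fs O0) (tr r) :=
  forest_reach (fs O0) tr trioL trAct gensO 72 (packL 72 trioL) infOT rootsOT
    (fun π hπ => ⟨P_mem_M24 (gensO_spec hπ).1, (gensO_spec hπ).2⟩)
    (fun π hπ _ hc _ hd h => (trAct_spec (gensO_spec hπ).1 hc hd).1 h)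
    (by decide +kernel) (by decide +kernel) (by decide +kernel)

theorem reachOS : ∀ c ∈ sextetL, ∃ r ∈ rootsOS, sx c ∈ Orb (fs O0) (sx r) :=
  forest_reach (fs O0) sx sextetL sxAct gensO 144 (packL 144 sextetL) infOS rootsOS
    (fun π hπ => ⟨P_mem_M24 (gensO_spec hπ).1, (gensO_spec hπ).2⟩)
    (fun π hπ _ hc _ hd h => (sxAct_spec (gensO_spec hπ).1 hc hd).1 h)
    (by decide +kernel) (by decide +kernel) (by decide +kernel)

theorem trF_all_lt {c m : ℕ} (h : m ∈ trF c) : m < 2 ^ 24 := trF_lt h

theorem certOT : OrbitCert (fs O0) trios tr trioL (fun T => Phi T {fs O0})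
    (fun c => sumSq (trF c) [O0]) rootsOT where
  hnd := trioL_nodup
  hinj := tr_inj
  hA := mem_trios_iff_list
  hφ := by
    intro m hm
    have := Phi_famOf (l1 := trF m) (l2 := [O0]) (trF_nodup (allL_spec trioL_OK m hm)) (nodup_single O0)
      (fun _ h => trF_lt h)
    rwa [famOf_singleton, ← tr_eq_famOf] at this
  hinv := fun s _ h x _ => phi_inv_O h x
  hs := fun s hs x hx => smul_mem_trios hs hx
  reach := reachOT
  hroots := by decide +kernel
  hdist := distinct_of_injL (by decide +kernel)

theorem certOS : OrbitCert (fs O0) sextets sx sextetL (fun T => Phi T {fs O0})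
    (fun c => sumSq (sxF c) [O0]) rootsOS where
  hnd := sextetL_nodup
  hinj := sx_inj
  hA := mem_sextets_iff_list
  hφ := by
    intro m hm
    have := Phi_famOf (l1 := sxF m) (l2 := [O0]) (sxF_nodup (allL_spec sextetL_OK m hm)) (nodup_single O0)
      (fun _ h => sxF_lt h)
    rwa [famOf_singleton, ← sx_eq_famOf] at this
  hinv := fun s _ h x _ => phi_inv_O h x
  hs := fun s hs x hx => smul_mem_sextets hs hx
  reach := reachOS
  hroots := by decide +kernel
  hdist := distinct_of_injL (by decide +kernel)

end Cfsg.Agent.H27.Golay
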