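import Cfsg.Agent.Lib.H27.GolayCertO

/-!
# Transitivity on sextets and trios; orbits of the stabilisers of the base sextet and trio
-/

set_option autoImplicit false
set_option maxRecDepth 100000

namespace Cfsg.Agent.H27.Golay

open Cfsg
open scoped Pointwise

/-- `M24` is `k`-homogeneous for `k ≤ 5`. -/
theorem exists_smul_eq_of_card {s s' : Finset GolayPt} (h : s.card = s'.card) (h5 : s.card ≤ 5) :
    ∃ g ∈ M24, g • s = s' := by
  classical
  obtain ⟨S, hsS, hSc⟩ := Finset.exists_superset_card_eq (s := s) (n := 5) h5 (by simp [Finset.card_univ])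
  obtain ⟨S', hsS', hSc'⟩ := Finset.exists_superset_card_eq (s := s') (n := 5) (by omega) (by simp [Finset.card_univ])
  let l := s.toList ++ (S \ s).toList
  let l' := s'.toList ++ (S' \ s').toList
  have hlen : l.length = 5 := by
    simp only [l, List.length_append, Finset.length_toList]
    rw [Finset.card_sdiff_of_subset hsS, hSc]
    omega
  have hlen' : l'.length = 5 := by
    simp only [l', List.length_append, Finset.length_toList]
    rw [Finset.card_sdiff_of_subset hsS', hSc']
    omega
  have hnd : l.Nodup := by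
    refine List.Nodup.append s.nodup_toList (S \ s).nodup_toList ?_
    intro a ha hb
    simp only [Finset.mem_toList, Finset.mem_sdiff] at ha hb
    exact hb.2 ha
  have hnd' : l'.Nodup := by
    refine List.Nodup.append s'.nodup_toList (S' \ s').nodup_toList ?_
    intro a ha hb
    simp only [Finset.mem_toList, Finset.mem_sdiff] at ha hb
    exact hb.2 ha
  let x : Fin 5 → GolayPt := fun i => l[i.1]'(by omega)
  let y : Fin 5 → GolayPt := fun i => l'[i.1]'(by omega)
  have hx : Function.Injective x := by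
    intro i j hij
    exact Fin.ext ((List.Nodup.getElem_inj_iff hnd).1 hij)
  have hy : Function.Injective y := by
    intro i j hij
    exact Fin.ext ((List.Nodup.getElem_inj_iff hnd').1 hij)
  obtain ⟨g, hg, hgi⟩ := five_transitive x y hx hy
  refine ⟨g, hg, ?_⟩
  apply Finset.eq_of_subset_of_card_le
  · intro q hq
    obtain ⟨p, hp, rfl⟩ := Finset.mem_smul_finset.1 hq
    have hpl : p ∈ s.toList := Finset.mem_toList.2 hp
    obtain ⟨j, hj, hjp⟩ := List.getElem_of_mem hpl
    have hjlen : j < s.card := by simpa using hj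
    have hj5 : j < 5 := by omega
    have h1 : x ⟨j, hj5⟩ = p := by
      show l[j]'(by omega) = p
      simp only [l]
      rw [List.getElem_append_left hj]
      exact hjp
    have h2 := hgi ⟨j, hj5⟩
    rw [h1] at h2
    show g p ∈ s'
    rw [h2]
    show l'[j]'(by omega) ∈ s'
    simp only [l']
    rw [List.getElem_append_left (by simpa [← h] using hjlen)]
    exact Finset.mem_toList.1 (List.getElem_mem _)
  · rw [Finset.card_smul_finset, h]

/-- `M24` is transitive on sextets. -/
theorem exists_smul_S0 {S : Finset (Finset GolayPt)} (hS : S ∈ sextets) :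
    ∃ g ∈ M24, g • sx S0c = S := by
  have hS0 : S0c ∈ sextetL := by decide +kernel
  have hS0s : sx S0c ∈ sextets := sx_mem_sextets (allL_spec sextetL_OK _ hS0)
  obtain ⟨t, ht⟩ : S.Nonempty := Finset.card_pos.1 (by rw [hS.1]; norm_num)
  have ht0 : fs (fld S0c 0) ∈ sx S0c := mem_sx.2 ⟨_, fld0_mem_sxF _, rfl⟩
  obtain ⟨g, hg, e⟩ := exists_smul_eq_of_card (s := fs (fld S0c 0)) (s' := t)
    (by rw [hS0s.2.1 _ ht0, hS.2.1 _ ht]) (by rw [hS0s.2.1 _ ht0]; norm_num)
  refine ⟨g, hg, sextet_eq_of_mem (smul_mem_sextets hg hS0s) hS (t := t) ?_ ht⟩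
  rw [← e]
  exact Finset.smul_mem_smul_finset ht0

theorem T0_mem : T0c ∈ rootsOT := by decide +kernel

theorem T0_inv : sumSq (trF T0c) [O0] = 64 := by decide +kernel

/-- `M24` is transitive on trios; each trio containing the base octad is moved by the octad stabiliser. -/
theorem exists_stab_T0 {T : Finset (Finset GolayPt)} (hT : T ∈ trios) (h0 : fs O0 ∈ T) :
    ∃ s ∈ M24, s • fs O0 = fs O0 ∧ s • tr T0c = T := by
  have h := certOT.Orb_eq T0_mem
  have hy : T ∈ {y | y ∈ trios ∧ Phi y {fs O0} = sumSq (trF T0c) [O0]} := by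
    refine ⟨hT, ?_⟩
    rw [T0_inv]
    unfold Phi
    rw [Finset.sum_eq_single (fs O0)]
    · simp only [Finset.sum_singleton, Finset.inter_self]
      rw [fs_O0_octad.2]
    · intro b hb hne
      have hd := hT.2.2 b hb _ h0 hne
      simp [Finset.disjoint_iff_inter_eq_empty.1 hd]
    · intro hn
      exact absurd h0 hn
  rw [← h] at hy
  exact hy

theorem exists_smul_T0 {T : Finset (Finset GolayPt)} (hT : T ∈ trios) :
    ∃ g ∈ M24, g • tr T0c = T := by
  obtain ⟨a, ha⟩ : T.Nonempty := Finset.card_pos.1 (by rw [hT.1]; norm_num)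
  obtain ⟨g, hg, rfl⟩ := exists_smul_O0 (hT.2.1 a ha)
  have h1 : g⁻¹ • T ∈ trios := smul_mem_trios (M24.inv_mem hg) hT
  have h2 : fs O0 ∈ g⁻¹ • T := by
    rw [Finset.mem_smul_finset]
    exact ⟨_, ha, by simp⟩
  obtain ⟨s, hs, -, e⟩ := exists_stab_T0 h1 h2
  refine ⟨g * s, M24.mul_mem hg hs, ?_⟩
  rw [mul_smul, e, smul_inv_smul]

theorem S0c_mem : S0c ∈ sextetL := by decide +kernel

theorem T0c_mem : T0c ∈ trioL := by decide +kernel

theorem gensS_ok : allL (stabS S0c) gensS = true := by decide +kernel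

theorem gensT_ok : allL (stabT T0c) gensT = true := by decide +kernel

theorem gensS_spec {π : ℕ} (h : π ∈ gensS) : isM24 π = true ∧ P π • sx S0c = sx S0c :=
  stabS_spec S0c_mem (allL_spec gensS_ok π h)

theorem gensT_spec {π : ℕ} (h : π ∈ gensT) : isM24 π = true ∧ P π • tr T0c = tr T0c :=
  stabT_spec T0c_mem (allL_spec gensT_ok π h)

theorem phi_inv_F {s : Equiv.Perm GolayPt} {B : Finset (Finset GolayPt)} (h : s • B = B)
    (A : Finset (Finset GolayPt)) : Phi (s • A) B = Phi A B := by
  have := Phi_smul s A B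
  rwa [h] at this

theorem phi_inv_x {s : Equiv.Perm GolayPt} {B : Finset (Finset GolayPt)} (h : s • B = B)
    (x : Finset GolayPt) : Phi {s • x} B = Phi {x} B := by
  have := Phi_smul s {x} B
  rwa [h, Finset.smul_finset_singleton] at this

theorem reachSO : ∀ c ∈ octadL, ∃ r ∈ rootsSO, fs c ∈ Orb (sx S0c) (fs r) :=
  forest_reach (sx S0c) fs octadL actO gensS 24 (packL 24 octadL) infSO rootsSO
    (fun π hπ => ⟨P_mem_M24 (gensS_spec hπ).1, (gensS_spec hπ).2⟩)
    (fun π hπ _ _ _ _ h => actO_spec (gensS_spec hπ).1 h)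
    (by decide +kernel) (by decide +kernel) (by decide +kernel)

theorem reachST : ∀ c ∈ trioL, ∃ r ∈ rootsST, tr c ∈ Orb (sx S0c) (tr r) :=
  forest_reach (sx S0c) tr trioL trAct gensS 72 (packL 72 trioL) infST rootsST
    (fun π hπ => ⟨P_mem_M24 (gensS_spec hπ).1, (gensS_spec hπ).2⟩)
    (fun π hπ _ hc _ hd h => (trAct_spec (gensS_spec hπ).1 hc hd).1 h)
    (by decide +kernel) (by decide +kernel) (by decide +kernel)

theorem reachTO : ∀ c ∈ octadL, ∃ r ∈ rootsTO, fs c ∈ Orb (tr T0c) (fs r) :=
  forest_reach (tr T0c) fs octadL actO gensT 24 (packL 24 octadL) infTO rootsTO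
    (fun π hπ => ⟨P_mem_M24 (gensT_spec hπ).1, (gensT_spec hπ).2⟩)
    (fun π hπ _ _ _ _ h => actO_spec (gensT_spec hπ).1 h)
    (by decide +kernel) (by decide +kernel) (by decide +kernel)

theorem reachTS : ∀ c ∈ sextetL, ∃ r ∈ rootsTS, sx c ∈ Orb (tr T0c) (sx r) :=
  forest_reach (tr T0c) sx sextetL sxAct gensT 144 (packL 144 sextetL) infTS rootsTS
    (fun π hπ => ⟨P_mem_M24 (gensT_spec hπ).1, (gensT_spec hπ).2⟩)
    (fun π hπ _ hc _ hd h => (sxAct_spec (gensT_spec hπ).1 hc hd).1 h)
    (by decide +kernel) (by decide +kernel) (by decide +kernel)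

theorem S0F_nodup : ((sxF S0c).map fs).Nodup := sxF_nodup (allL_spec sextetL_OK _ S0c_mem)

theorem T0F_nodup : ((trF T0c).map fs).Nodup := trF_nodup (allL_spec trioL_OK _ T0c_mem)

theorem certSO : OrbitCert (sx S0c) octads fs octadL (fun x => Phi {x} (sx S0c))
    (fun m => sumSq [m] (sxF S0c)) rootsSO where
  hnd := octadL_nodup
  hinj := fs_inj_octadL
  hA := mem_octads_iff_list
  hφ := by
    intro m hm
    have := Phi_famOf (l1 := [m]) (l2 := sxF S0c) (nodup_single m) S0F_nodup
      (by simpa using octadL_lt hm)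
    rwa [famOf_singleton, ← sx_eq_famOf] at this
  hinv := fun s _ h x _ => phi_inv_x h x
  hs := fun s hs x hx => smul_mem_octads hs hx
  reach := reachSO
  hroots := by decide +kernel
  hdist := distinct_of_injL (by decide +kernel)

theorem certST : OrbitCert (sx S0c) trios tr trioL (fun x => Phi x (sx S0c))
    (fun c => sumSq (trF c) (sxF S0c)) rootsST where
  hnd := trioL_nodup
  hinj := tr_inj
  hA := mem_trios_iff_list
  hφ := by
    intro m hm
    have := Phi_famOf (l1 := trF m) (l2 := sxF S0c) (trF_nodup (allL_spec trioL_OK m hm)) S0F_nodup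
      (fun _ h => trF_lt h)
    rwa [← sx_eq_famOf, ← tr_eq_famOf] at this
  hinv := fun s _ h x _ => phi_inv_F h x
  hs := fun s hs x hx => smul_mem_trios hs hx
  reach := reachST
  hroots := by decide +kernel
  hdist := distinct_of_injL (by decide +kernel)

theorem certTO : OrbitCert (tr T0c) octads fs octadL (fun x => Phi {x} (tr T0c))
    (fun m => sumSq [m] (trF T0c)) rootsTO where
  hnd := octadL_nodup
  hinj := fs_inj_octadL
  hA := mem_octads_iff_list
  hφ := by
    intro m hm
    have := Phi_famOf (l1 := [m]) (l2 := trF T0c) (nodup_single m) T0F_nodup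
      (by simpa using octadL_lt hm)
    rwa [famOf_singleton, ← tr_eq_famOf] at this
  hinv := fun s _ h x _ => phi_inv_x h x
  hs := fun s hs x hx => smul_mem_octads hs hx
  reach := reachTO
  hroots := by decide +kernel
  hdist := distinct_of_injL (by decide +kernel)

theorem certTS : OrbitCert (tr T0c) sextets sx sextetL (fun x => Phi x (tr T0c))
    (fun c => sumSq (sxF c) (trF T0c)) rootsTS where
  hnd := sextetL_nodup
  hinj := sx_inj
  hA := mem_sextets_iff_list
  hφ := by
    intro m hm
    have := Phi_famOf (l1 := sxF m) (l2 := trF T0c) (sxF_nodup (allL_spec sextetL_OK m hm)) T0F_nodup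
      (fun _ h => sxF_lt h)
    rwa [← sx_eq_famOf, ← tr_eq_famOf] at this
  hinv := fun s _ h x _ => phi_inv_F h x
  hs := fun s hs x hx => smul_mem_sextets hs hx
  reach := reachTS
  hroots := by decide +kernel
  hdist := distinct_of_injL (by decide +kernel)

end Cfsg.Agent.H27.Golay
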