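import Cfsg.Agent.Lib.H27.GolayClasses

/-!
# Numbers of octads, trios, sextets, dodecads fixed by elements of small order
-/

set_option autoImplicit false
set_option maxRecDepth 100000

namespace Cfsg.Agent.H27.Golay

open Cfsg
open scoped Pointwise

theorem conj_octads {k : Equiv.Perm GolayPt} (hk : k ∈ M24) (g : Equiv.Perm GolayPt) :
    {x : Finset GolayPt | x ∈ octads ∧ (k * g * k⁻¹) • x = x}.ncard =
      {x : Finset GolayPt | x ∈ octads ∧ g • x = x}.ncard :=
  ncard_fixed_conj octads (fun _ hx => smul_mem_octads hk hx)
    (fun _ hx => smul_mem_octads (M24.inv_mem hk) hx) g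

theorem conj_dodecads {k : Equiv.Perm GolayPt} (hk : k ∈ M24) (g : Equiv.Perm GolayPt) :
    {x : Finset GolayPt | x ∈ dodecads ∧ (k * g * k⁻¹) • x = x}.ncard =
      {x : Finset GolayPt | x ∈ dodecads ∧ g • x = x}.ncard :=
  ncard_fixed_conj dodecads (fun _ hx => smul_mem_dodecads hk hx)
    (fun _ hx => smul_mem_dodecads (M24.inv_mem hk) hx) g

theorem conj_sextets {k : Equiv.Perm GolayPt} (hk : k ∈ M24) (g : Equiv.Perm GolayPt) :
    {x : Finset (Finset GolayPt) | x ∈ sextets ∧ (k * g * k⁻¹) • x = x}.ncard =
      {x : Finset (Finset GolayPt) | x ∈ sextets ∧ g • x = x}.ncard :=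
  ncard_fixed_conj sextets (fun _ hx => smul_mem_sextets hk hx)
    (fun _ hx => smul_mem_sextets (M24.inv_mem hk) hx) g

theorem conj_trios {k : Equiv.Perm GolayPt} (hk : k ∈ M24) (g : Equiv.Perm GolayPt) :
    {x : Finset (Finset GolayPt) | x ∈ trios ∧ (k * g * k⁻¹) • x = x}.ncard =
      {x : Finset (Finset GolayPt) | x ∈ trios ∧ g • x = x}.ncard :=
  ncard_fixed_conj trios (fun _ hx => smul_mem_trios hk hx)
    (fun _ hx => smul_mem_trios (M24.inv_mem hk) hx) g

theorem count_2A_octads : countL (fixTest c2A) octadL = 71 := by decide +kernel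
theorem count_2A_trios : countL (fun c => trAct c2A c c) trioL = 99 := by decide +kernel
theorem count_2A_sextets : countL (fun c => sxAct c2A c c) sextetL = 91 := by decide +kernel
theorem count_2B_octads : countL (fixTest c2B) octadL = 15 := by decide +kernel
theorem count_2B_trios : countL (fun c => trAct c2B c c) trioL = 75 := by decide +kernel
theorem count_2B_sextets : countL (fun c => sxAct c2B c c) sextetL = 51 := by decide +kernel
theorem count_3A_octads : countL (fixTest c3A) octadL = 21 := by decide +kernel
theorem count_3A_trios : countL (fun c => trAct c3A c c) trioL = 15 := by decide +kernel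
theorem count_3A_sextets : countL (fun c => sxAct c3A c c) sextetL = 16 := by decide +kernel
theorem count_3A_dodecads : countL (fixTest c3A) dodecadL = 20 := by decide +kernel
theorem count_3B_trios : countL (fun c => trAct c3B c c) trioL = 15 := by decide +kernel
theorem count_3B_sextets : countL (fun c => sxAct c3B c c) sextetL = 7 := by decide +kernel

end Cfsg.Agent.H27.Golay
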