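import Cfsg.Agent.Lib.H27.GolayOrd

/-!
# Orbits of stabilisers in `M24`: transport and spanning forests
-/

set_option autoImplicit false
set_option maxRecDepth 100000

namespace Cfsg.Agent.H27.Golay

open Cfsg
open scoped Pointwise

section Orb

variable {X Y : Type*} [MulAction (Equiv.Perm GolayPt) X] [MulAction (Equiv.Perm GolayPt) Y]

/-- The orbit of `x` under the stabiliser of `o` in `M24`, as a set. -/
def Orb (o : Y) (x : X) : Set X := {y | ∃ s ∈ M24, s • o = o ∧ s • x = y}

theorem orbit_eq_Orb (o : Y) (x : X) :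
    MulAction.orbit ↥(MulAction.stabilizer M24 o) x = Orb o x := by
  ext y
  constructor
  · rintro ⟨s, rfl⟩
    exact ⟨((s : ↥M24) : Equiv.Perm GolayPt), (s : ↥M24).2, s.2, rfl⟩
  · rintro ⟨s, hs, h1, rfl⟩
    exact ⟨⟨⟨s, hs⟩, h1⟩, rfl⟩

theorem self_mem_Orb (o : Y) (x : X) : x ∈ Orb o x := ⟨1, M24.one_mem, one_smul _ _, one_smul _ _⟩

theorem Orb_smul {g : Equiv.Perm GolayPt} (hg : g ∈ M24) (o : Y) (x : X) :
    Orb (g • o) (g • x) = (fun y => g • y) '' Orb o x := by
  ext y
  constructor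
  · rintro ⟨s, hs, h1, rfl⟩
    refine ⟨(g⁻¹ * s * g) • x, ⟨g⁻¹ * s * g, M24.mul_mem (M24.mul_mem (M24.inv_mem hg) hs) hg, ?_, rfl⟩, ?_⟩
    · rw [mul_smul, mul_smul, h1, inv_smul_smul]
    · show g • (g⁻¹ * s * g) • x = _
      rw [mul_smul, mul_smul, smul_inv_smul]
  · rintro ⟨z, ⟨s, hs, h1, rfl⟩, rfl⟩
    refine ⟨g * s * g⁻¹, M24.mul_mem (M24.mul_mem hg hs) (M24.inv_mem hg), ?_, ?_⟩
    · rw [mul_smul, mul_smul, inv_smul_smul, h1]
    · rw [mul_smul, mul_smul, inv_smul_smul]

theorem ncard_Orb_smul {g : Equiv.Perm GolayPt} (hg : g ∈ M24) (o : Y) (x : X) :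
    (Orb (g • o) (g • x)).ncard = (Orb o x).ncard := by
  rw [Orb_smul hg, Set.ncard_image_of_injective _ (MulAction.injective g)]

/-- A certificate for the orbits of the stabiliser of `o` on the family `A`. -/
structure OrbitCert (o : Y) (A : Set X) (dec : ℕ → X) (L : List ℕ) (φ : X → ℕ) (inv : ℕ → ℕ)
    (roots : List ℕ) : Prop where
  hnd : L.Nodup
  hinj : ∀ m ∈ L, ∀ n ∈ L, dec m = dec n → m = n
  hA : ∀ x, x ∈ A ↔ ∃ m ∈ L, dec m = x
  hφ : ∀ m ∈ L, φ (dec m) = inv m
  hinv : ∀ s ∈ M24, s • o = o → ∀ x ∈ A, φ (s • x) = φ x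
  hs : ∀ s ∈ M24, ∀ x ∈ A, s • x ∈ A
  reach : ∀ c ∈ L, ∃ r ∈ roots, dec c ∈ Orb o (dec r)
  hroots : ∀ r ∈ roots, r ∈ L
  hdist : ∀ r ∈ roots, ∀ r' ∈ roots, inv r = inv r' → r = r'

variable {o : Y} {A : Set X} {dec : ℕ → X} {L : List ℕ} {φ : X → ℕ} {inv : ℕ → ℕ} {roots : List ℕ}

theorem OrbitCert.Orb_eq (C : OrbitCert o A dec L φ inv roots) {r : ℕ} (hr : r ∈ roots) :
    Orb o (dec r) = {y | y ∈ A ∧ φ y = inv r} := by
  have hrL := C.hroots r hr
  have hrA : dec r ∈ A := (C.hA _).2 ⟨r, hrL, rfl⟩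
  ext y
  constructor
  · rintro ⟨s, hs, h1, rfl⟩
    refine ⟨C.hs s hs _ hrA, ?_⟩
    rw [C.hinv s hs h1 _ hrA, C.hφ r hrL]
  · rintro ⟨hy, h2⟩
    obtain ⟨c, hc, rfl⟩ := (C.hA y).1 hy
    obtain ⟨r', hr', hreach⟩ := C.reach c hc
    have hr'L := C.hroots r' hr'
    have h3 : φ (dec c) = φ (dec r') := by
      obtain ⟨s, hs, h1, h4⟩ := hreach
      rw [← h4, C.hinv s hs h1 _ ((C.hA _).2 ⟨r', hr'L, rfl⟩)]
    rw [h2, C.hφ r' hr'L] at h3
    have := C.hdist r hr r' hr' h3
    rwa [this]

theorem OrbitCert.ncard_Orb (C : OrbitCert o A dec L φ inv roots) {r : ℕ} (hr : r ∈ roots) :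
    (Orb o (dec r)).ncard = countL (fun m => Nat.beq (inv m) (inv r)) L := by
  rw [C.Orb_eq hr]
  apply ncard_of_list dec C.hnd C.hinj C.hA
  intro m hm
  rw [C.hφ m hm]
  exact ⟨Nat.eq_of_beq_eq_true, fun h => by rw [h]; exact Nat.beq_refl _⟩

theorem OrbitCert.cover (C : OrbitCert o A dec L φ inv roots) {x : X} (hx : x ∈ A) :
    ∃ r ∈ roots, x ∈ Orb o (dec r) := by
  obtain ⟨c, hc, rfl⟩ := (C.hA x).1 hx
  exact C.reach c hc

/-- Orbits of the stabiliser of a conjugate of the base object. -/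
theorem OrbitCert.orbit_smul (C : OrbitCert o A dec L φ inv roots) {g : Equiv.Perm GolayPt}
    (hg : g ∈ M24) {r : ℕ} (hr : r ∈ roots) :
    g • dec r ∈ A ∧ (MulAction.orbit ↥(MulAction.stabilizer M24 (g • o)) (g • dec r)).ncard =
      countL (fun m => Nat.beq (inv m) (inv r)) L := by
  refine ⟨C.hs g hg _ ((C.hA _).2 ⟨r, C.hroots r hr, rfl⟩), ?_⟩
  rw [orbit_eq_Orb, ncard_Orb_smul hg, C.ncard_Orb hr]

theorem OrbitCert.cover_smul (C : OrbitCert o A dec L φ inv roots) {g : Equiv.Perm GolayPt}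
    (hg : g ∈ M24) {x : X} (hx : x ∈ A) :
    ∃ r ∈ roots, x ∈ MulAction.orbit ↥(MulAction.stabilizer M24 (g • o)) (g • dec r) := by
  have h1 : g⁻¹ • x ∈ A := C.hs _ (M24.inv_mem hg) x hx
  obtain ⟨r, hr, h2⟩ := C.cover h1
  refine ⟨r, hr, ?_⟩
  rw [orbit_eq_Orb, Orb_smul hg]
  exact ⟨_, h2, smul_inv_smul g x⟩

theorem OrbitCert.orbit_sub_smul (C : OrbitCert o A dec L φ inv roots) {g : Equiv.Perm GolayPt}
    (hg : g ∈ M24) {r : ℕ} (hr : r ∈ roots) :
    MulAction.orbit ↥(MulAction.stabilizer M24 (g • o)) (g • dec r) ⊆ A := by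
  rw [orbit_eq_Orb, Orb_smul hg]
  rintro _ ⟨z, hz, rfl⟩
  rw [C.Orb_eq hr] at hz
  exact C.hs g hg z hz.1

end Orb

/-! ### Spanning forests -/

/-- Field of a big table. -/
def tabAt (W tbl i : ℕ) : ℕ :=
  Nat.land (Nat.shiftRight tbl (Nat.mul W i)) (Nat.pred (Nat.shiftLeft 1 W))

/-- Packing a list in a table. -/
def packL (W : ℕ) (L : List ℕ) : ℕ :=
  (List.rec (motive := fun _ => ℕ → ℕ) (fun _ => 0)
    (fun x _ ih i => Nat.lor (Nat.shiftLeft x (Nat.mul W i)) (ih (Nat.succ i))) L : ℕ → ℕ) 0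

/-- Check that the table agrees with the list. -/
def tabOK (W tbl : ℕ) (L : List ℕ) : Bool :=
  (List.rec (motive := fun _ => ℕ → Bool) (fun _ => true)
    (fun x _ ih i => Bool.rec false (ih (Nat.succ i)) (Nat.beq (tabAt W tbl i) x)) L : ℕ → Bool) 0

theorem tabOK_aux {W tbl : ℕ} {L : List ℕ} {k : ℕ}
    (h : (List.rec (motive := fun _ => ℕ → Bool) (fun _ => true)
    (fun x _ ih i => Bool.rec false (ih (Nat.succ i)) (Nat.beq (tabAt W tbl i) x)) L : ℕ → Bool) k = true) :
    ∀ i (hi : i < L.length), tabAt W tbl (k + i) = L[i] := by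
  induction L generalizing k with
  | nil => intro i hi; simp at hi
  | cons a as ih =>
    have hk : (Bool.rec false ((List.rec (motive := fun _ => ℕ → Bool) (fun _ => true)
      (fun x _ ih i => Bool.rec false (ih (Nat.succ i)) (Nat.beq (tabAt W tbl i) x)) as : ℕ → Bool) (Nat.succ k))
      (Nat.beq (tabAt W tbl k) a) : Bool) = true := h
    cases hb : Nat.beq (tabAt W tbl k) a with
    | false => rw [hb] at hk; cases hk
    | true =>
      rw [hb] at hk
      intro i hi
      cases i with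
      | zero =>
        simpa using Nat.eq_of_beq_eq_true hb
      | succ j =>
        have := ih hk j (by simpa using hi)
        have e : k + (j + 1) = Nat.succ k + j := by omega
        rw [e, this]
        simp

theorem tabOK_spec {W tbl : ℕ} {L : List ℕ} (h : tabOK W tbl L = true) :
    ∀ i (hi : i < L.length), tabAt W tbl i = L[i] := by
  intro i hi
  have := tabOK_aux h i hi
  rwa [zero_add] at this

/-- The data of one node of a forest: parent (13 bits), generator (3 bits), depth. -/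
def nPar (w : ℕ) : ℕ := Nat.land w 8191
/-- The data of one node of a forest: parent (13 bits), generator (3 bits), depth. -/
def nGen (w : ℕ) : ℕ := Nat.land (Nat.shiftRight w 13) 7
/-- The data of one node of a forest: parent (13 bits), generator (3 bits), depth. -/
def nDep (w : ℕ) : ℕ := Nat.shiftRight w 16

/-- Check of a node of the forest. -/
def nodeOK (act : ℕ → ℕ → ℕ → Bool) (gens : List ℕ) (W tbl inf n i : ℕ) : Bool :=
  Bool.rec
    (Bool.rec false (Bool.rec false
      (Bool.rec false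
        (act (gens.getD (nGen (tabAt 24 inf i)) 0) (tabAt W tbl (nPar (tabAt 24 inf i))) (tabAt W tbl i))
        (Nat.ble (Nat.succ (nGen (tabAt 24 inf i))) gens.length))
      (Nat.ble (Nat.succ (nPar (tabAt 24 inf i))) n))
      (Nat.ble (Nat.succ (nDep (tabAt 24 inf (nPar (tabAt 24 inf i))))) (nDep (tabAt 24 inf i))))
    true (Nat.beq (nDep (tabAt 24 inf i)) 0)

/-- Roots of the forest are in the given list. -/
def rootsOK (W tbl inf n : ℕ) (roots : List ℕ) : Bool :=
  allBelow (fun i => Bool.rec true (memL (tabAt W tbl i) roots) (Nat.beq (nDep (tabAt 24 inf i)) 0)) n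

section Forest

variable {X Y : Type*} [MulAction (Equiv.Perm GolayPt) X] [MulAction (Equiv.Perm GolayPt) Y]

theorem forest_reach (o : Y) (dec : ℕ → X) (L : List ℕ) (act : ℕ → ℕ → ℕ → Bool) (gens : List ℕ)
    (W tbl inf : ℕ) (roots : List ℕ)
    (hgens : ∀ π ∈ gens, P π ∈ M24 ∧ P π • o = o)
    (hact : ∀ π ∈ gens, ∀ c ∈ L, ∀ d ∈ L, act π c d = true → P π • dec c = dec d)
    (htab : tabOK W tbl L = true)
    (hnode : allBelow (nodeOK act gens W tbl inf L.length) L.length = true)
    (hrootsOK : rootsOK W tbl inf L.length roots = true) :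
    ∀ c ∈ L, ∃ r ∈ roots, dec c ∈ Orb o (dec r) := by
  have htabm : ∀ i < L.length, tabAt W tbl i ∈ L := by
    intro i hi
    rw [tabOK_spec htab i hi]
    exact List.getElem_mem hi
  have key : ∀ d i, i < L.length → nDep (tabAt 24 inf i) = d →
      ∃ r ∈ roots, dec (tabAt W tbl i) ∈ Orb o (dec r) := by
    intro d
    induction d using Nat.strong_induction_on with
    | _ d ih =>
      intro i hi hd
      have hn := allBelow_spec hnode i hi
      unfold nodeOK at hn
      cases h0 : Nat.beq (nDep (tabAt 24 inf i)) 0 with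
      | true =>
        have := allBelow_spec hrootsOK i hi
        rw [h0] at this
        exact ⟨_, (memL_iff _ _).1 this, self_mem_Orb _ _⟩
      | false =>
        rw [h0] at hn
        cases h1 : Nat.ble (Nat.succ (nDep (tabAt 24 inf (nPar (tabAt 24 inf i))))) (nDep (tabAt 24 inf i)) with
        | false => rw [h1] at hn; cases hn
        | true =>
          rw [h1] at hn
          cases h2 : Nat.ble (Nat.succ (nPar (tabAt 24 inf i))) L.length with
          | false => rw [h2] at hn; cases hn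
          | true =>
            rw [h2] at hn
            cases h3 : Nat.ble (Nat.succ (nGen (tabAt 24 inf i))) gens.length with
            | false => rw [h3] at hn; cases hn
            | true =>
              rw [h3] at hn
              have hlt1 : nDep (tabAt 24 inf (nPar (tabAt 24 inf i))) < d := by
                rw [← hd]
                exact Nat.le_of_ble_eq_true h1
              have hpar : nPar (tabAt 24 inf i) < L.length := Nat.le_of_ble_eq_true h2
              have hgen : nGen (tabAt 24 inf i) < gens.length := Nat.le_of_ble_eq_true h3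
              obtain ⟨r, hr, hreach⟩ := ih _ hlt1 _ hpar rfl
              refine ⟨r, hr, ?_⟩
              have hgm : gens.getD (nGen (tabAt 24 inf i)) 0 ∈ gens := by
                rw [List.getD_eq_getElem _ _ hgen]
                exact List.getElem_mem hgen
              have h5 := hact _ hgm _ (htabm _ hpar) _ (htabm _ hi) hn
              obtain ⟨s, hs, h6, h7⟩ := hreach
              obtain ⟨g1, g2⟩ := hgens _ hgm
              refine ⟨P (gens.getD (nGen (tabAt 24 inf i)) 0) * s, M24.mul_mem g1 hs, ?_, ?_⟩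
              · rw [mul_smul, h6, g2]
              · rw [mul_smul, h7, h5]
  intro c hc
  obtain ⟨i, hi, rfl⟩ := List.getElem_of_mem hc
  have := key _ i hi rfl
  rwa [tabOK_spec htab i hi] at this

end Forest

end Cfsg.Agent.H27.Golay
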