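import Cfsg.Agent.Lib.H27.GolayForest

/-!
# An invariant of pairs of families: the sum of squares of intersection numbers
-/

set_option autoImplicit false
set_option maxRecDepth 100000

namespace Cfsg.Agent.H27.Golay

open Cfsg
open scoped Pointwise

/-- Sum of squares of intersection numbers. -/
def Phi (A B : Finset (Finset GolayPt)) : ℕ :=
  ∑ t ∈ A, ∑ u ∈ B, (t ∩ u).card * (t ∩ u).card

theorem card_smul_inter (s : Equiv.Perm GolayPt) (t u : Finset GolayPt) :
    ((s • t) ∩ (s • u)).card = (t ∩ u).card := by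
  rw [← Finset.smul_finset_inter, Finset.card_smul_finset]

theorem sum_smul_finset' {M α : Type*} [AddCommMonoid M] [DecidableEq α]
    [MulAction (Equiv.Perm GolayPt) α] (s : Equiv.Perm GolayPt) (A : Finset α) (f : α → M) :
    ∑ t ∈ s • A, f t = ∑ t ∈ A, f (s • t) := by
  rw [← Finset.image_smul, Finset.sum_image]
  intro x _ y _ h
  exact MulAction.injective s h

theorem Phi_smul (s : Equiv.Perm GolayPt) (A B : Finset (Finset GolayPt)) :
    Phi (s • A) (s • B) = Phi A B := by
  unfold Phi
  rw [sum_smul_finset']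
  refine Finset.sum_congr rfl fun t _ => ?_
  rw [sum_smul_finset']
  refine Finset.sum_congr rfl fun u _ => ?_
  rw [card_smul_inter]

/-- Fast form of the invariant. -/
def sumSq (l1 l2 : List ℕ) : ℕ :=
  List.rec (motive := fun _ => ℕ) 0
    (fun a _ ih => Nat.add
      (List.rec (motive := fun _ => ℕ) 0
        (fun b _ ih2 => Nat.add ((fun n => Nat.mul n n) (popc (Nat.land a b))) ih2) l2) ih) l1

theorem card_inter_fs {a b : ℕ} (ha : a < 2 ^ 24) : (fs a ∩ fs b).card = popc (Nat.land a b) := by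
  have h : fs a ∩ fs b = fs (a &&& b) := by
    ext p
    simp [mem_fs, Nat.testBit_and]
  rw [h]
  exact card_fs (Nat.lt_of_le_of_lt Nat.and_le_left ha)

/-- The toFinset of the images of a list of masks. -/
noncomputable def famOf (l : List ℕ) : Finset (Finset GolayPt) := (l.map fs).toFinset

theorem sum_famOf {M : Type*} [AddCommMonoid M] {l : List ℕ} (h : (l.map fs).Nodup) (f : Finset GolayPt → M) :
    ∑ t ∈ famOf l, f t = (l.map fun m => f (fs m)).sum := by
  unfold famOf
  rw [List.sum_toFinset _ h, List.map_map]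
  rfl

theorem Phi_famOf {l1 l2 : List ℕ} (h1 : (l1.map fs).Nodup) (h2 : (l2.map fs).Nodup)
    (hl1 : ∀ m ∈ l1, m < 2 ^ 24) : Phi (famOf l1) (famOf l2) = sumSq l1 l2 := by
  unfold Phi
  rw [sum_famOf h1]
  induction l1 with
  | nil => rfl
  | cons a as ih =>
    have h3 : (as.map fs).Nodup := (List.nodup_cons.1 h1).2
    have ih' := ih h3 (fun m hm => hl1 m (List.mem_cons_of_mem _ hm))
    rw [List.map_cons, List.sum_cons, ih', sum_famOf h2]
    have hsumSq : sumSq (a :: as) l2 = Nat.add (List.rec (motive := fun _ => ℕ) 0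
        (fun b _ ih2 => Nat.add ((fun n => Nat.mul n n) (popc (Nat.land a b))) ih2) l2) (sumSq as l2) := rfl
    rw [hsumSq]
    congr 1
    have ha := hl1 a List.mem_cons_self
    clear ih ih' hsumSq h2
    induction l2 with
    | nil => rfl
    | cons b bs ih2 =>
      rw [List.map_cons, List.sum_cons, ih2, card_inter_fs ha]
      rfl

theorem famOf_singleton (m : ℕ) : famOf [m] = {fs m} := by
  simp [famOf]

theorem sx_eq_famOf (c : ℕ) : sx c = famOf (sxF c) := rfl
theorem tr_eq_famOf (c : ℕ) : tr c = famOf (trF c) := rfl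

theorem sxF_nodup {c : ℕ} (h : sxOK c = true) : ((sxF c).map fs).Nodup := by
  obtain ⟨-, hcard, hp⟩ := sxOK_spec h
  rw [List.Nodup, List.pairwise_map]
  have h3 : (sxF c).Pairwise (fun x y => unionOct x y = true ∧ x ∈ sxF c ∧ y ∈ sxF c) :=
    List.Pairwise.and_mem.1 hp |>.imp (fun {a b} h => ⟨h.2.2, h.1, h.2.1⟩)
  refine h3.imp ?_
  rintro x y ⟨hu, hx, hy⟩ heq
  have hoct := unionOct_spec (sxF_lt hx) (sxF_lt hy) hu
  rw [← heq, Finset.union_self] at hoct
  have h4 := hoct.2
  rw [hcard x hx] at h4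
  omega

theorem trF_nodup {c : ℕ} (h : trOK c = true) : ((trF c).map fs).Nodup := by
  obtain ⟨h1, h2, -⟩ := trOK_spec h
  obtain ⟨d01, d02, d12⟩ := tr_fields h
  have o0 := h2 (fld c 0) (by simp [trF])
  have o1 := h2 (fld c 1) (by simp [trF])
  simp only [trF, List.map_cons, List.map_nil, List.nodup_cons, List.mem_cons, List.not_mem_nil,
    or_false, not_or, List.nodup_nil, and_true, not_false_eq_true]
  exact ⟨⟨ne_of_disjoint_octads o0 d01, ne_of_disjoint_octads o0 d02⟩, ne_of_disjoint_octads o1 d12⟩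

/-- Action test on masks. -/
def actO (π c d : ℕ) : Bool := Nat.beq (am π c) d

theorem actO_spec {π : ℕ} (h : isM24 π = true) {c d : ℕ} (hh : actO π c d = true) :
    P π • fs c = fs d := by
  rw [← fs_am (isM24_permOK h), Nat.eq_of_beq_eq_true hh]

/-- Test that an element of `M24` stabilises the mask. -/
def stabO (m π : ℕ) : Bool := Bool.rec false (fixTest π m) (isM24 π)

theorem stabO_spec {m π : ℕ} (h : stabO m π = true) : isM24 π = true ∧ P π • fs m = fs m := by
  unfold stabO at h
  cases h1 : isM24 π with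
  | false => rw [h1] at h; cases h
  | true =>
    rw [h1] at h
    exact ⟨rfl, (fixTest_spec (isM24_permOK h1)).1 h⟩

/-- Test that an element of `M24` stabilises the sextet. -/
def stabS (c π : ℕ) : Bool := Bool.rec false (sxAct π c c) (isM24 π)

/-- Test that an element of `M24` stabilises the trio. -/
def stabT (c π : ℕ) : Bool := Bool.rec false (trAct π c c) (isM24 π)

theorem stabS_spec {c π : ℕ} (hc : c ∈ sextetL) (h : stabS c π = true) :
    isM24 π = true ∧ P π • sx c = sx c := by
  unfold stabS at h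
  cases h1 : isM24 π with
  | false => rw [h1] at h; cases h
  | true =>
    rw [h1] at h
    exact ⟨rfl, (sxAct_spec h1 hc hc).1 h⟩

theorem stabT_spec {c π : ℕ} (hc : c ∈ trioL) (h : stabT c π = true) :
    isM24 π = true ∧ P π • tr c = tr c := by
  unfold stabT at h
  cases h1 : isM24 π with
  | false => rw [h1] at h; cases h
  | true =>
    rw [h1] at h
    exact ⟨rfl, (trAct_spec h1 hc hc).1 h⟩

/-- Injectivity form of `memL` on a list. -/
theorem distinct_of_injL {roots : List ℕ} {inv : ℕ → ℕ} (h : (roots.map inv).Nodup) :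
    ∀ r ∈ roots, ∀ r' ∈ roots, inv r = inv r' → r = r' := by
  intro r hr r' hr' hi
  induction roots with
  | nil => cases hr
  | cons a as ih =>
    obtain ⟨h1, h2⟩ := List.nodup_cons.1 h
    rcases List.mem_cons.1 hr with rfl | hr2
    · rcases List.mem_cons.1 hr' with rfl | hr2'
      · rfl
      · exact absurd (hi ▸ List.mem_map_of_mem hr2') h1
    · rcases List.mem_cons.1 hr' with rfl | hr2'
      · exact absurd (hi ▸ List.mem_map_of_mem hr2) h1
      · exact ih h2 hr2 hr2'

section Unions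

variable {X Y : Type*} [MulAction (Equiv.Perm GolayPt) X] [MulAction (Equiv.Perm GolayPt) Y]
variable {o : Y} {A : Set X} {dec : ℕ → X} {L : List ℕ} {φ : X → ℕ} {inv : ℕ → ℕ} {roots : List ℕ}

theorem OrbitCert.union3 (C : OrbitCert o A dec L φ inv roots) {r1 r2 r3 : ℕ}
    (h1 : r1 ∈ roots) (h2 : r2 ∈ roots) (h3 : r3 ∈ roots) (hc : ∀ r ∈ roots, r = r1 ∨ r = r2 ∨ r = r3)
    {g : Equiv.Perm GolayPt} (hg : g ∈ M24) :
    A = MulAction.orbit ↥(MulAction.stabilizer M24 (g • o)) (g • dec r1) ∪
      MulAction.orbit ↥(MulAction.stabilizer M24 (g • o)) (g • dec r2) ∪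
      MulAction.orbit ↥(MulAction.stabilizer M24 (g • o)) (g • dec r3) := by
  apply Set.Subset.antisymm
  · intro x hx
    obtain ⟨r, hr, h⟩ := C.cover_smul hg hx
    rcases hc r hr with rfl | rfl | rfl
    · exact Or.inl (Or.inl h)
    · exact Or.inl (Or.inr h)
    · exact Or.inr h
  · rintro x ((h | h) | h)
    · exact C.orbit_sub_smul hg h1 h
    · exact C.orbit_sub_smul hg h2 h
    · exact C.orbit_sub_smul hg h3 h

theorem OrbitCert.union4 (C : OrbitCert o A dec L φ inv roots) {r1 r2 r3 r4 : ℕ}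
    (h1 : r1 ∈ roots) (h2 : r2 ∈ roots) (h3 : r3 ∈ roots) (h4 : r4 ∈ roots)
    (hc : ∀ r ∈ roots, r = r1 ∨ r = r2 ∨ r = r3 ∨ r = r4)
    {g : Equiv.Perm GolayPt} (hg : g ∈ M24) :
    A = MulAction.orbit ↥(MulAction.stabilizer M24 (g • o)) (g • dec r1) ∪
      MulAction.orbit ↥(MulAction.stabilizer M24 (g • o)) (g • dec r2) ∪
      MulAction.orbit ↥(MulAction.stabilizer M24 (g • o)) (g • dec r3) ∪
      MulAction.orbit ↥(MulAction.stabilizer M24 (g • o)) (g • dec r4) := by
  apply Set.Subset.antisymm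
  · intro x hx
    obtain ⟨r, hr, h⟩ := C.cover_smul hg hx
    rcases hc r hr with rfl | rfl | rfl | rfl
    · exact Or.inl (Or.inl (Or.inl h))
    · exact Or.inl (Or.inl (Or.inr h))
    · exact Or.inl (Or.inr h)
    · exact Or.inr h
  · rintro x (((h | h) | h) | h)
    · exact C.orbit_sub_smul hg h1 h
    · exact C.orbit_sub_smul hg h2 h
    · exact C.orbit_sub_smul hg h3 h
    · exact C.orbit_sub_smul hg h4 h

end Unions

end Cfsg.Agent.H27.Golay
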